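import Cfsg.Agent.RC.X.ZsX
import Cfsg.Agent.KM.Sp.F42

/-!
# RC (S4576): the covers of `F₄(2)` and `U₆(2)` at the prime `3` (helper12)
-/

set_option autoImplicit false
set_option linter.unusedSectionVars false

namespace Cfsg.Agent.RC.X

open Cfsg Cfsg.Lie Cfsg.Agent.DL Cfsg.Agent.DL.Asm Cfsg.Agent.Nodes.Reps Cfsg.Agent.Nodes.BNOf Matrix Subgroup
  Cfsg.Agent.KM Cfsg.Agent.KM.Mu Cfsg.Agent.KM.Ht Cfsg.Agent.KM.Tor Cfsg.Agent.KM.Ex Cfsg.Agent.KM.Xc Cfsg.Agent.KZ.DatX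
  Cfsg.Agent.BHZ.Spor Cfsg.Agent.KZ.Dat
open Cfsg.Agent.TO.X.Cn (Pi1 exists_exp mem_cen pi1 pm_F4)

section gen

variable {p : ℕ} [Fact p.Prime] {k : Type} [Field k] [CharP k p] {Y : Type} [Group Y] {N : Type} [Fintype N]
  [DecidableEq N] {ρ : Y →* GL N k} {F : MulAut Y} {G : Subgroup Y} [IsAlgClosed k] {X : Datum p ρ F G} {f l : ℕ}

theorem toral_of_reg [hl' : Fact l.Prime] (h : Pi1 X f) (hp : l ≠ p) (hf : l.Coprime f) (hL : NL X l) (hT : Two X l)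
    {D : Subgroup ↥(GF F G)} (hP : IsPGroup l D) (hab : ∀ a ∈ D, ∀ b ∈ D, a * b = b * a) {s : GF F G}
    (s1 : ¬ l ∣ orderOf s) (s2 : ∀ d ∈ D, Commute d s) (s3 : s ≠ 1) (hnc : ¬ IsCyclic D) :
    Toral X (D.map (GF F G).subtype) := by
  have := X.amb.finite_GF G
  have hl := hl'.out
  have hfin : ((D.map (GF F G).subtype : Subgroup Y) : Set Y).Finite := (Set.toFinite (D : Set ↥(GF F G))).image _
  have hG : D.map (GF F G).subtype ≤ G := fun _ ⟨z, _, e⟩ => e ▸ z.2.1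
  have hF : ∀ z ∈ D.map (GF F G).subtype, F z = z := fun _ ⟨z, _, e⟩ => e ▸ z.2.2
  have he : El l (D.map (GF F G).subtype : Set Y) := fun _ ⟨z, hz, e⟩ =>
    (pelt_of_mem hP hz).imp fun _ hj => e ▸ congrArg Subtype.val hj
  have hc : ∀ a ∈ D.map (GF F G).subtype, ∀ b ∈ D.map (GF F G).subtype, a * b = b * a :=
    fun _ ⟨a, ha, e⟩ _ ⟨b, hb, e'⟩ => e ▸ e' ▸ congrArg Subtype.val (hab a ha b hb)
  by_contra hn
  have h1 := fun t ht g hg h1 h2 =>
    hn (toral_of (t := t) (g := g) h hl hp hf hL hfin hG (fun z hz => (hF z hz).symm ▸ hz) he hc ht hg h1 h2)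
  have : IsMulCommutative (⊤ : Subgroup D) :=
    ⟨⟨fun a b => Subtype.ext (Subtype.ext (hab _ a.1.2 _ b.1.2))⟩⟩
  obtain ⟨z, t, -, z1, z2, t1, t2, -⟩ := H548.PDich.exists_zw hP ⊤ this fun e => hnc (Subgroup.topEquiv.isCyclic.1 e)
  let ι : D →* Y := (GF F G).subtype.comp D.subtype
  have hι : Function.Injective ι := Subtype.val_injective.comp Subtype.val_injective
  have m : ∀ d : D, ι d ∈ D.map (GF F G).subtype := fun d => ⟨d, d.2, rfl⟩
  have z3 : ι z ^ l = 1 := by rw [← map_pow, z1, map_one]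
  have t3 : ι t ^ l = 1 := by rw [← map_pow, t1, map_one]
  obtain ⟨g, hg, h2⟩ := toral_cen (X := X) (Set.empty_subset _) Set.finite_empty (cc_empty _ (hG (m z)) fun _ h => h.elim)
    (not_dvd_ord hl hp (j := 1) (by rwa [pow_one]))
  replace hg := X.cen_le_G _ hg
  obtain ⟨c, hc1, h3⟩ := toral_cen (Set.singleton_subset_iff.2 h2) (Set.finite_singleton _) (y := g⁻¹ * ι t * g)
    (mem_cen h h2 (conj_pow_eq z3) hf (mul_mem (mul_mem (inv_mem hg) (hG (m t))) hg) (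
      calc _ = g⁻¹ * (ι t * ι z) * g := by group
        _ = _ := by rw [hc _ (m t) _ (m z)]; group)) (not_dvd_ord hl hp (j := 1) (by rw [pow_one]; exact conj_pow_eq t3))
  obtain ⟨y, hy, hN, h4, -⟩ := SB.Exc.Max.exists_conj_le_T X (Z := {ι z, ι t}) (by
      rintro _ (rfl | rfl)
      · exact .inl (hF _ (m z))
      · exact .inr (hF _ (m t))) (mul_mem hg (X.cen_le_G _ hc1)) (by
      rintro _ (rfl | rfl)
      · rwa [show (g * c)⁻¹ * ι z * (g * c) = c⁻¹ * (g⁻¹ * ι z * g * c) by group,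
          X.cen_le_centralizer (Set.singleton_subset_iff.2 h2) hc1 _ rfl, inv_mul_cancel_left]
      · rwa [show (g * c)⁻¹ * ι t * (g * c) = c⁻¹ * (g⁻¹ * ι t * g) * c by group])
  have h5 := sz_empty (X := X.conj hy hN) hl hp hT (h4 (.inl rfl)) (h4 (.inr rfl)) z3 (fun e => z2 (hι (e.trans ι.map_one.symm)))
    t3 (fun ⟨n, e⟩ => t2 ⟨n, hι ((map_zpow ι z n).trans e)⟩) fun i j e => by
      have h5 := mem_cj.1 (mul_mem (zpow_mem (h4 (.inl rfl)) i) (zpow_mem (h4 (.inr rfl)) j))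
      exact h1 _ (mul_mem (zpow_mem (m z) i) (zpow_mem (m t) j)) y hy h5
        (e.imp fun v hv => ⟨hv.1, sz_conj hy hN h5 ▸ hv.2⟩)
  have h6 : ({ι z, ι t} : Set Y) ⊆ D.map (GF F G).subtype := by
    rintro _ (rfl | rfl)
    exacts [m z, m t]
  by_cases h7 : ∀ d ∈ D.map (GF F G).subtype, d ∈ (X.conj hy hN).T
  · refine hn ⟨y, hy, hN, fun d hd => ?_⟩
    obtain ⟨ζ, v, -, -, e⟩ := exists_exp _ (h7 d hd)
    exact e ▸ Ht.mem_Z0 (fun b hb => (h5.subset (Sz_anti h6 hb)).elim) ζ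
  push Not at h7
  obtain ⟨u, hu, h7⟩ := h7
  obtain ⟨j, hj⟩ := he u hu
  have s4 : ∀ d ∈ D.map (GF F G).subtype, d * s = s * d := fun _ ⟨d, hd, e⟩ => e ▸ congrArg Subtype.val (s2 d hd)
  exact s3 <| Subtype.ext (no_reg (h.conj hy hN) hl hp hf hL (Set.toFinite _) h4 (fun z hz => he z (h6 hz)) h5 (hG hu)
    (fun z hz => hc z (h6 hz) u hu) h7 hj s.2.1 (fun z hz => s4 z (h6 hz)) (s4 u hu) (by rwa [orderOf_coe]))

/-- an abelian subgroup which centralises a regular element lies in a rational torus -/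
theorem tor_of_reg [hl' : Fact l.Prime] (h : Pi1 X f) (hp : l ≠ p) (hf : l.Coprime f) (hL : NL X l) (hT : Two X l)
    {D : Subgroup ↥(GF F G)} (hP : IsPGroup l D) (hab : ∀ a ∈ D, ∀ b ∈ D, a * b = b * a) {s : GF F G}
    (s1 : ¬ l ∣ orderOf s) (s2 : ∀ d ∈ D, Commute d s) (s3 : s ≠ 1) :
    ∃ T ∈ tori X, ∀ d ∈ D, (d : Y) ∈ T := by
  by_cases hc : IsCyclic D
  · obtain ⟨z, hz⟩ := hc.exists_generator
    obtain ⟨j, hj⟩ := pelt_of_mem hP z.2
    obtain ⟨g, hg, h2⟩ := toral_cen (X := X) (Set.empty_subset _) Set.finite_empty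
      (cc_empty _ z.1.2.1 fun _ h => h.elim) (not_dvd_ord hl'.out hp (j := j) (congrArg Subtype.val hj))
    obtain ⟨y, hy, hN, h4, -⟩ := SB.Exc.Max.exists_conj_le_T X (Z := {z.1.1})
      (by rintro _ rfl; exact z.1.2.2) (X.cen_le_G _ hg) (by rintro _ rfl; exact h2)
    refine ⟨_, ⟨y, hy, rfl, (X.stable_iff hy).2 hN⟩, fun d hd => ?_⟩
    obtain ⟨n, hn⟩ := hz ⟨d, hd⟩
    have h5 : (d : Y) = z.1.1 ^ n := (congrArg (fun x : D => x.1.1) hn).symm
    exact h5 ▸ zpow_mem (h4 rfl) n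
  · obtain ⟨y, hy, hN, h1⟩ := toral_of_reg h hp hf hL hT hP hab s1 s2 s3 hc
    exact ⟨_, ⟨y, hy, rfl, (X.stable_iff hy).2 hN⟩, fun d hd => Z0_le_T _ _ (h1 ⟨d, hd, rfl⟩)⟩

theorem sy_one [Fact l.Prime] (h : Pi1 X f) (hp : l ≠ p) (hf : l.Coprime f) (hL : NL X l) (hT : Two X l)
    (hb : (Cv.ofEquiv (MulEquiv.refl ↥(GF F G))).TB X l (l ^ 3)) : Sy l ↥(GF F G) := fun D H h4 h2 => by
  have := X.amb.finite_GF G
  obtain ⟨E, -, h5, h6, h7, h8⟩ | ⟨a, -, g, ha, -, hg, h5, -⟩ := dich (π := MonoidHom.id _) Function.surjective_id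
    (MonoidHom.ker_id.le.trans bot_le) (by rw [MonoidHom.ker_id, card_bot]; exact one_dvd _) H.pg h4 h2
  · by_contra h9
    refine h9 (H.mxl fun s s1 s2 => by_contra fun s3 => h9 ?_)
    obtain ⟨T, h1, h3⟩ := tor_of_reg h hp hf hL hT (H.pg.to_le h5) h6 s1 (fun d hd => s2 d (h5 hd)) s3
    rw [Subgroup.map_id] at h8
    exact mxl_of_tor (Cv.ofEquiv (MulEquiv.refl ↥(GF F G))) X hp H hb (E := E) (H.pg.to_le h5) h8 h5 h7 h1 h3
  · exact absurd (ha.2 g hg) h5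

/-- all abelian subgroups are toral -/
theorem sy_allT [hl : Fact l.Prime] {S : Type} [Group S] (c : Cv p F G S) (hp : l ≠ p) (hA : AllT X l)
    (hb : c.TB X l (l ^ 3)) (hk : Nat.card c.π.ker ∣ l) : Sy l S := fun D H h4 h2 => by
  have := c.fin X
  have : Finite S := Finite.of_surjective _ c.surj
  have hV : IsPGroup l (D.comap c.π) := H.pg.comap_of_ker_isPGroup c.π (by
    obtain h | h := (Nat.dvd_prime hl.out).1 hk
    exacts [IsPGroup.of_card (n := 0) h, IsPGroup.of_card (n := 1) (h.trans (pow_one l).symm)])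
  obtain ⟨E, h5, h6, h7, h8⟩ : ∃ E : Subgroup c.H0, E ≤ D.comap c.π ∧ (∀ a ∈ E, ∀ b ∈ E, a * b = b * a) ∧
      (∀ g ∈ D.comap c.π, ∀ a ∈ E, g * a * g⁻¹ ∈ E) ∧ l ^ 3 ∣ Nat.card E := by
    obtain ⟨E, -, h5, h6, h7, h8⟩ | ⟨a, r, g, ha, hr, hg, h5, h6, h7, h8⟩ := dich c.surj c.ker hk H.pg h4 h2
    · exact ⟨E, h5, h6, h7, h8.trans (card_map_dvd _ _)⟩
    let E := zc ((zc D).comap c.π ⊓ centralizer {a} ⊓ centralizer {r})
    have e1 : E ≤ D.comap c.π := fun x hx => hx.1.1.1.1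
    have e2 : ∀ z ∈ c.π.ker, ∀ x, x * z = z * x := fun z hz => mem_center_iff.1 (c.ker hz)
    have e3 : c.π.ker ≤ E ⊓ centralizer {g} := fun z hz =>
      ⟨⟨⟨⟨mem_comap.2 ((show c.π z = 1 from hz).symm ▸ one_mem _), mem_centralizer_singleton_iff.2 (e2 z hz a).symm⟩,
        mem_centralizer_singleton_iff.2 (e2 z hz r).symm⟩, fun x _ => e2 z hz x⟩,
        mem_centralizer_singleton_iff.2 (e2 z hz g).symm⟩
    have e4 : ∀ x ∈ (zc D).comap c.π, ∀ v ∈ D.comap c.π, v * x * v⁻¹ * x⁻¹ ∈ c.π.ker := fun x hx v hv => by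
      rw [MonoidHom.mem_ker, map_mul, map_mul, map_mul, map_inv, map_inv, hx.2 _ hv]
      group
    refine ⟨E, e1, fun x hx y hy => hy.2 x hx.1, fun v hv x hx => ?_, pow_succ_dvd (hV.to_le e1) inf_le_left
      (x := a) ⟨⟨⟨ha, mem_centralizer_singleton_iff.2 rfl⟩, mem_centralizer_singleton_iff.2 h7.symm⟩,
        fun x hx => mem_centralizer_singleton_iff.1 hx.1.2⟩ (fun e => h5 (mem_centralizer_singleton_iff.1 e.2).symm)
      (pow_succ_dvd (hV.to_le (inf_le_left.trans e1)) e3 (x := r) ⟨mem_zc ⟨hr, mem_centralizer_singleton_iff.2 h7⟩,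
        mem_centralizer_singleton_iff.2 h8⟩ h6 (pow_succ_dvd (hV.to_le (e3.trans (inf_le_left.trans e1))) bot_le
          (e4 a ha g hg) (fun e => h5 ?_) (one_dvd _)))⟩
    · rw [← inv_mul_cancel_right (v * x * v⁻¹) x]
      exact mul_mem (e3 (e4 x hx.1.1.1 v hv)).1 hx
    · rwa [mem_bot, mul_inv_eq_one, mul_inv_eq_iff_eq_mul] at e
  obtain ⟨T, h1, h3⟩ := hA (E.map c.H0.subtype) ((map_subtype_le _).trans c.le) ((hV.to_le h5).map _) (by
    rintro _ ⟨a, ha, rfl⟩ _ ⟨b, hb, rfl⟩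
    exact congrArg Subtype.val (h6 a ha b hb))
  exact mxl_of_tor c X hp H hb (hV.to_le h5) h8 h5 h7 h1 fun z hz => h3 ⟨z, hz, rfl⟩

end gen

theorem Sy.congr {l : ℕ} [Fact l.Prime] {S T : Type} [Group S] [Group T] [Finite T] (h : Sy l S) (e : S ≃* T) : Sy l T :=
  fun D H h4 h2 P hP hle => by
    have := Finite.of_equiv _ e.symm.toEquiv
    refine (map_le_map_iff_of_injective (f := e.symm.toMonoidHom) e.symm.injective).1 (h _ (H.quot _ e.symm.surjective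
      (((MonoidHom.ker_eq_bot_iff _).2 e.symm.injective).le.trans bot_le)) (by rwa [card_map_of_injective e.symm.injective])
      (h2.trans ?_) _ (hP.map _) (map_mono hle))
    rw [← card_map_of_injective (f := e.symm.toMonoidHom) e.symm.injective]
    refine card_dvd_of_le ?_
    rintro _ ⟨z, hz, rfl⟩
    exact ⟨⟨z, hz.1, rfl⟩, fun _ ⟨d, hd, e1⟩ => e1 ▸ (Commute.map (hz.2 d hd) e.symm.toMonoidHom :)⟩

variable [Fact (Nat.Prime 3)]

/-- **`F₄(2)`** -/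
theorem f42 (F : Type) [Field F] [Fintype F] (hF : Fintype.card F = 2) : RRow 3 ↥(chevF4.group F) := by
  have : Fact (Nat.Prime 2) := ⟨Nat.prime_two⟩
  have : CharP F 2 := charP_of_card_eq_prime hF
  obtain ⟨k, _, _, _, X, -, ⟨s⟩⟩ := Nt.has_F4 (r := 2) (e := 1) (F := F) hF
  have := X.finite
  have : Finite ↥(chevF4.group F) := Finite.of_injective _ s.ov.hom_inj
  have : Nonempty X.D.R := ⟨(0 : Fin 4)⟩
  refine rrow_of ((sy_one (pi1 X pm_F4) (by decide) (Nat.coprime_one_right 3) (nl_of X Nat.prime_three bad_F4)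
    (two_of X Nat.prime_three bad_F4 twoC_F4) (Cv.tb_of_bound _ _ (Sp.F42.fq_mx X.D X.D_Mx)
      (fun s hs h2 h3 => five_le hs h2 h3) ?_)).congr s.ov.equiv.symm) (zs_f42 F hF)
  show (2 ^ 1 + 1) ^ Fintype.card (Fin 4) < 3 ^ 3 * 5
  rw [Fintype.card_fin]
  decide

/-- **`U₆(2)`** -/
theorem u62 (F : Type) [Field F] [Fintype F] (h : Fintype.card F = 4) : RRow 3 (PSU 6 F 2) := by
  have h0 := zs_u62 F h
  obtain ⟨p, hp, e, k, _, _, _, f, hk, -, h1⟩ := hasU F (q := 2) h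
  obtain ⟨rfl, rfl⟩ := (Nat.prime_two.pow_eq_iff).1 h1.symm
  have := (cvU hk f h).fin (datU 5 hk one_pos)
  have := Finite.of_surjective _ (cvU hk f h).surj
  exact rrow_of (sy_allT (cvU hk f h) (by norm_num) (allT_of_lev _ (A.pi1_A hk one_pos _) (by norm_num)
    (Nat.coprime_one_right 3) (A.lev_A hk one_pos _ 3)) (tbU hk f h) (kerU hk f h)) h0

end Cfsg.Agent.RC.X
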