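import Cfsg.Agent.RC.X.ZsX
import Cfsg.Agent.KM.Xc.E6M

/-!
# RC (S4576): the covers of `²E₆(2)` at the prime `3` (helper12)
-/

set_option autoImplicit false
set_option linter.unusedSectionVars false

namespace Cfsg.Agent.RC.X

open Cfsg Cfsg.Lie Cfsg.Agent.DL Cfsg.Agent.DL.Asm Subgroup Cfsg.Agent.Nodes.Reps Matrix Cfsg.Agent.KM Cfsg.Agent.KM.Mu
  Cfsg.Agent.KM.Tor Cfsg.Agent.KM.Xc Cfsg.Agent.BHZ.Spor
open Cfsg.Agent.KM.Sc (Isog)

section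

variable {k : Type} [Field k] [Fact (Nat.Prime 2)] [CharP k 2] [IsAlgClosed k]
  {Y' : Type} [Group Y'] {N' : Type} [Fintype N'] [DecidableEq N'] {ρ' : Y' →* GL N' k} {F' : MulAut Y'}
  {G' : Subgroup Y'} {Y : Type} [Group Y] {N : Type} [Fintype N] [DecidableEq N] {ρ : Y →* GL N k} {F : MulAut Y}
  {G : Subgroup Y} {X' : Datum 2 ρ' F' G'} {X : Datum 2 ρ F G} {θ : Y' →* Y} {I : Isog X' X θ 3}

/-- the centraliser is a `{2, 3}`-group -/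
def Ns (x : GF F' G') : Prop :=
  ∀ a ∈ GF F' G', ∀ s j : ℕ, s.Prime → s ≠ 2 → s ≠ 3 → a ^ s ^ j = 1 → a ∈ centralizer {x.1} → a = 1

theorem tau_cube (X' : Datum 2 ρ' F' G') {ω : kˣ} (hω : orderOf ω = 3) (u : X'.R → ℤ) : X'.τ (coch u ω) ^ 3 = 1 := by
  rw [← map_pow, ← map_pow, ← hω, pow_orderOf_eq_one, map_one, map_one]

theorem frame (X' : Datum 2 ρ' F' G') (x : GF F' G') {j : ℕ} (hj : x ^ 3 ^ j = 1) :
    ∃ (y : Y') (hy : y ∈ G') (hN : y⁻¹ * F' y ∈ X'.NN), (x : Y') ∈ (X'.conj hy hN).T :=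
  TO.E6.exists_frame X' x.2 (not_dvd_ord Nat.prime_three (by norm_num) (congrArg Subtype.val hj))

variable {W : Submonoid (Matrix X.R X.R ℤ)} {n : (X'.R → ℤ) → ℤ} {Is : (X'.R → ℤ) → Prop} {u₀ : X'.R → ℤ}
  (H : Pk I W n Is u₀) {ω : kˣ} (hω : orderOf ω = 3)
include H hω

/-- elements of Levi type -/
theorem toral {u : X'.R → ℤ} (h1 : ¬ Ce I u) (h2 : ¬ Is u) {A : Set Y'} (hfin : A.Finite) (hG : A ⊆ G')
    (he : ∀ a ∈ A, ∃ j, a ^ 3 ^ j = 1) (hc : ∀ a ∈ A, ∀ b ∈ A, a * b = b * a) (hu : X'.τ (coch u ω) ∈ A) :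
    ∃ g ∈ G', ∀ a ∈ A, g⁻¹ * a * g ∈ X'.T := by
  obtain ⟨c, hc3, v, hv⟩ := (H.lv u).resolve_left h2
  have h3 : Gds X' 3 (X'.Sz {X'.τ (coch u ω)}) := fun j x hx => lvs_of I Nat.prime_three
    (H.nl j _ (c • I.P *ᵥ u + (3 : ℤ) • v) (fun e => h1 fun r => hc3.symm.dvd_of_dvd_mul_left
      ⟨-v r, by simpa [add_eq_zero_iff_eq_neg] using congrFun e r⟩) fun a ha h4 => hv a ha (by
        obtain ⟨a', ha', e⟩ := I.root' a ha
        rw [Sz_exp, hω] at hx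
        rw [dotProduct_mulVec, ← e] at h4 ⊢
        exact (hx ⟨ha', h4⟩).2))
  have hT := X'.τ_mem (coch u ω)
  have h4 : CC X' {X'.τ (coch u ω)} := fun y hy h => TO.X.Cn.mem_cen H.pi1 hT (tau_cube X' hω u) (Nat.coprime_one_right 3) hy
    (mem_centralizer_singleton_iff.1 h)
  obtain ⟨g, h5, h6, -⟩ := ind H.pi1 Nat.prime_three (by norm_num) (Nat.coprime_one_right 3)
    (Set.singleton_subset_iff.2 hT) (Set.finite_singleton _) (h3.qc Nat.prime_three hT (j := 1) (tau_cube X' hω u) le_rfl)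
    h4 h3 hfin (fun a ha => h4 a (hG ha) (mem_centralizer_singleton_iff.2 (hc a ha _ hu))) he hc
  exact ⟨g, X'.cen_le_G _ h5, h6⟩

variable {S : Type} [Group S] {π : ↥(GF F' G') →* S} (hk : ∀ h, π h = 1 ↔ θ h = 1)
include hk

theorem card_ker : Nat.card π.ker ∣ 3 := by
  rw [← card_map_of_injective (subtype_injective (GF F' G'))]
  refine (card_dvd_of_le (K := zpowers (X'.τ (coch u₀ ω))) ?_).trans
    ((Nat.card_zpowers _).dvd.trans (orderOf_dvd_of_pow_eq_one (tau_cube X' hω u₀)))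
  rintro _ ⟨z, h4, rfl⟩
  have h5 := (hk z).1 h4
  obtain ⟨u, hu⟩ := exists_coch X' (ζ := ω) (by omega) (I.ker z z.2.1 h5) (hω ▸ I.pow_eq_one z.2.1 h5)
  obtain ⟨e, u', h6⟩ := H.rad u ((ce_iff I hω u).1 (hu ▸ h5))
  exact ⟨e, by
    rw [coe_subtype, hu, (tau_eq X' (u := u) (v := e • u₀)).2 ⟨u', by rw [hω]; exact h6⟩, coch_zsmul, map_zpow, map_zpow]⟩

omit H in
theorem one_iff {y : Y'} (hy : y ∈ G') (hN : y⁻¹ * F' y ∈ X'.NN) {u : X'.R → ℤ} {x : GF F' G'}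
    (e : (x : Y') = (X'.conj hy hN).τ (coch u ω)) : π x = 1 ↔ Ce I u := (hk x).trans (e ▸ ce_iff (cjI I hy hN) hω u)

omit H hω in
include I in
theorem pelt {x : GF F' G'} {i : ℕ} (hi : π x ^ 3 ^ i = 1) : x ^ 3 ^ (i + 1) = 1 := Subtype.ext (by
  rw [pow_succ, pow_mul]
  exact I.pow_eq_one (x ^ 3 ^ i).2.1 ((hk _).1 (by rw [map_pow, hi])))

variable {A : Subgroup S} (hA : IsPGroup 3 A) (nI : ∀ x, π x ∈ A → ¬ Ns x)
include nI

omit hk in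
theorem not_is {y : Y'} (hy : y ∈ G') (hN : y⁻¹ * F' y ∈ X'.NN) {u : X'.R → ℤ} {x : GF F' G'} (hx : π x ∈ A)
    (e : (x : Y') = (X'.conj hy hN).τ (coch u ω)) : ¬ Is u := fun hI => nI x hx fun _ ha _ _ h1 h2 h3 h4 h5 =>
  (H.conj hy hN).ns hω (e ▸ x.2.2) hI ha h1 h2 h3 h4 (e ▸ h5)

theorem one_of {y : Y'} (hy : y ∈ G') (hN : y⁻¹ * F' y ∈ X'.NN) {u : X'.R → ℤ} {x : GF F' G'} (hx : π x ∈ A)
    (e : (x : Y') = (X'.conj hy hN).τ (coch u ω)) (h1 : 3 ∣ n u) : π x = 1 :=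
  (one_iff hω hk hy hN e).2 ((H.sing u h1).resolve_right (not_is H hω nI hy hN hx e))

include hA

omit hω in
theorem cube (x : GF F' G') (hx : π x ∈ A) : x ^ 3 = 1 := by
  obtain ⟨ζ, hζ⟩ := exists_prim 2 k (n := 9) (by norm_num)
  have hω : orderOf (ζ ^ 3) = 3 := by rw [orderOf_pow_of_dvd (by norm_num) (by rw [hζ]; norm_num), hζ]
  have e9 : ∀ x : GF F' G', π x ∈ A → x ^ 3 ^ 2 = 1 → x ^ 3 = 1 := fun x hx h1 => by
    obtain ⟨y, hy, hN, hT⟩ := frame X' x h1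
    obtain ⟨u, hu⟩ := exists_coch (X'.conj hy hN) (ζ := ζ) (by omega) hT (hζ ▸ congrArg Subtype.val h1)
    obtain ⟨M, a1, -, u', a3⟩ := (H.conj hy hN).fix (hu ▸ x.2.2)
    rw [hζ] at a3
    obtain ⟨b1, b2⟩ := H.nine M a1 u u' a3
    have h2 : ((x ^ 3 : GF F' G') : Y') = (X'.conj hy hN).τ (coch u (ζ ^ 3)) := by
      rw [Subgroup.coe_pow, hu, map_pow, map_pow]
    exact Subtype.ext (h2.trans ((tau_one _).2 (hω.symm ▸ b2 ((one_iff hω hk hy hN h2).1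
      (one_of H hω hk nI hy hN (by rw [map_pow]; exact pow_mem hx 3) h2 b1)))))
  obtain ⟨i, hi⟩ := pelt_of_mem hA hx
  have h1 := pelt (I := I) hk hi
  clear hi
  generalize i + 1 = j at h1
  induction j generalizing x with
  | zero => rw [show x = 1 from (pow_one x).symm.trans h1, one_pow]
  | succ j ih =>
    exact e9 x hx ((pow_mul x 3 3).trans (ih _ (by rw [map_pow]; exact pow_mem hx 3) (by rw [← pow_mul, ← pow_succ', h1])))

theorem coord {y : Y'} (hy : y ∈ G') (hN : y⁻¹ * F' y ∈ X'.NN) {x : GF F' G'} (hx : π x ∈ A)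
    (hT : (x : Y') ∈ (X'.conj hy hN).T) : ∃ u, (x : Y') = (X'.conj hy hN).τ (coch u ω) :=
  exists_coch _ (by omega) hT (hω ▸ congrArg Subtype.val (cube H hk hA nI x hx))

theorem tor {a : GF F' G'} (ha : π a ∈ A) (h1 : π a ≠ 1) {Z : Set (GF F' G')} (hZ : a ∈ Z)
    (he : ∀ z ∈ Z, ∃ j, z ^ 3 ^ j = 1) (hc : ∀ x ∈ Z, ∀ z ∈ Z, x * z = z * x) :
    ∃ (y : Y') (hy : y ∈ G') (hN : y⁻¹ * F' y ∈ X'.NN), ∀ z ∈ Z, (z : Y') ∈ (X'.conj hy hN).T := by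
  have := X'.amb.finite_GF G'
  obtain ⟨y, hy, hN, hT⟩ := frame X' a (j := 1) (cube H hk hA nI a ha)
  obtain ⟨u, hu⟩ := coord H hω hk hA nI hy hN ha hT
  obtain ⟨g, hg, h5⟩ := toral (H.conj hy hN) hω (mt (one_iff (I := I) hω hk hy hN hu).2 h1) (not_is H hω nI hy hN ha hu)
    (A := Subtype.val '' Z) ((Set.toFinite _).image _) (fun _ ⟨z, _, e⟩ => e ▸ z.2.1)
    (fun _ ⟨z, hz, e⟩ => e ▸ (he z hz).imp fun _ => congrArg Subtype.val)
    (fun _ ⟨x, hx, e⟩ _ ⟨z, hz, e'⟩ => e ▸ e' ▸ congrArg Subtype.val (hc x hx z hz)) ⟨a, hZ, hu⟩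
  obtain ⟨y', hy', hN', h6, -⟩ := SB.Exc.Max.exists_conj_le_T X' (Z := Subtype.val '' Z)
    (fun _ ⟨z, hz, e⟩ => ⟨z, hz, e ▸ (mem_GF.1 z.2).2.symm⟩) (mul_mem hg hy)
    fun z hz => (show y⁻¹ * (g⁻¹ * z * g) * y = (g * y)⁻¹ * z * (g * y) by group) ▸ mem_cj.1 (h5 z hz)
  exact ⟨y', hy', hN', fun z hz => h6 ⟨z, hz, rfl⟩⟩

theorem tor3 {a b d : GF F' G'} (ha : π a ∈ A) (hb : π b ∈ A) (hd : π d ∈ A) (h1 : π a ≠ 1) (h2 : a * b = b * a)
    (h3 : a * d = d * a) (h4 : b * d = d * b) : ∃ (y : Y') (hy : y ∈ G') (hN : y⁻¹ * F' y ∈ X'.NN) (u v w : X'.R → ℤ),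
      (a : Y') = (X'.conj hy hN).τ (coch u ω) ∧ (b : Y') = (X'.conj hy hN).τ (coch v ω) ∧
        (d : Y') = (X'.conj hy hN).τ (coch w ω) := by
  obtain ⟨y, hy, hN, h6⟩ := tor H hω hk hA nI ha h1 (Z := {a, b, d}) (.inl rfl) (by
      rintro _ (rfl | rfl | rfl) <;> exact ⟨1, cube H hk hA nI _ ‹_›⟩) (by
      rintro _ (rfl | rfl | rfl) _ (rfl | rfl | rfl)
      exacts [rfl, h2, h3, h2.symm, rfl, h4, h3.symm, h4.symm, rfl])
  obtain ⟨u, hu⟩ := coord H hω hk hA nI hy hN ha (h6 _ (.inl rfl))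
  obtain ⟨v, hv⟩ := coord H hω hk hA nI hy hN hb (h6 _ (.inr (.inl rfl)))
  obtain ⟨w, hw⟩ := coord H hω hk hA nI hy hN hd (h6 _ (.inr (.inr rfl)))
  exact ⟨y, hy, hN, u, v, w, hu, hv, hw⟩

theorem not_cube (hs : Function.Surjective π) (hab : ∀ a b : GF F' G', π a ∈ A → π b ∈ A → a * b = b * a) :
    ¬ 3 ^ 3 ∣ Nat.card A := fun h0 => by
  have := X'.amb.finite_GF G'
  have := Finite.of_surjective _ hs
  obtain ⟨a, ha, b, hb, d, hd, h1⟩ := exists_three h0 fun d hd => by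
    obtain ⟨d, rfl⟩ := hs d
    rw [← map_pow, cube H hk hA nI d hd, map_one]
  obtain ⟨a, rfl⟩ := hs a
  obtain ⟨b, rfl⟩ := hs b
  obtain ⟨d, rfl⟩ := hs d
  obtain ⟨y, hy, hN, u, v, w, hu, hv, hw⟩ := tor3 H hω hk hA nI ha hb hd
    (fun e => absurd (h1 1 0 0 (by simpa using e)).1 (by decide)) (hab _ _ ha hb) (hab _ _ ha hd) (hab _ _ hb hd)
  obtain ⟨i, j, m, h2, h3⟩ := H.three u v w
  refine h2 (h1 i j m ?_)
  rw [← map_pow, ← map_pow, ← map_pow, ← map_mul, ← map_mul]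
  refine one_of H hω hk nI hy hN ?_ ?_ h3
  · rw [map_mul, map_mul, map_pow, map_pow, map_pow]
    exact mul_mem (mul_mem (pow_mem ha _) (pow_mem hb _)) (pow_mem hd _)
  · rw [← zero_add (((i : ℕ) : ℤ) • u), tau_add, tau_add, tau_add, ← hu, ← hv, ← hw, (tau_one _ (u := 0)).2 fun _ => dvd_zero _,
      one_mul]
    rfl

theorem two (hc : π.ker ≤ center _) {a r g : GF F' G'} (ha : π a ∈ A) (hr : π r ∈ A) (h0 : π g * π a = π a * π g)
    (h1 : g * a ≠ a * g) (h2 : r * a = a * r) (h3 : r * g = g * r) : π r = 1 := by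
  obtain ⟨z, e1⟩ : ∃ z, z = g * a * g⁻¹ * a⁻¹ := ⟨_, rfl⟩
  have h4 : z ∈ π.ker := by
    rw [e1, MonoidHom.mem_ker, map_mul, map_mul, map_mul, map_inv, map_inv, h0]
    group
  have h5 := mem_center_iff.1 (hc h4)
  have h6 : z ≠ 1 := fun e => h1 (by rwa [e, eq_comm, mul_inv_eq_one, mul_inv_eq_iff_eq_mul] at e1)
  have h7 : ∀ i : ℕ, g * (a * r ^ i) * g⁻¹ = a * r ^ i * z := fun i => by
    rw [h5, e1, ← mul_assoc g, mul_assoc _ (r ^ i), ((show Commute r g from h3).pow_left i).inv_right.eq]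
    group
  have h8 : ∀ i : ℕ, π (a * r ^ i) ≠ 1 := fun i e => h6 (by
    have := h7 i
    rwa [mem_center_iff.1 (hc e) g, mul_inv_cancel_right, left_eq_mul] at this)
  obtain ⟨y, hy, hN, u, v, w, hu, hv, hw⟩ := tor3 H hω hk hA nI ha hr (h4 ▸ one_mem A) (by simpa using h8 0) h2.symm
    (h5 a) (h5 r)
  refine one_of H hω hk nI hy hN hr hv (H.two u v fun i => ?_)
  have h9 : ((a * r ^ i : GF F' G') : Y') = (X'.conj hy hN).τ (coch (u + (i : ℤ) • v) ω) := by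
    rw [tau_add, ← hu, ← hv]
    rfl
  refine ⟨mt (one_of H hω hk nI hy hN ?_ h9) (h8 i), (H.conj hy hN).not_root hω ((one_iff (I := I) hω hk hy hN hw).1 h4)
    (fun e => h6 (Subtype.ext (hw.trans e))) g.2.1 ?_⟩
  · rw [map_mul, map_pow]
    exact mul_mem ha (A.pow_mem hr i)
  · rw [← h9, ← hw]
    exact congrArg Subtype.val (h7 i)

omit hA nI hω in
theorem sy_pk [Fact (Nat.Prime 3)] (hs : Function.Surjective π) (hz : θ.ker ≤ center Y') : Sy 3 S := fun D h h4 h2 => by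
  have := X'.amb.finite_GF G'
  have := Finite.of_surjective _ hs
  obtain ⟨ω, hω⟩ := exists_prim 2 k (n := 3) (by norm_num)
  have hc : π.ker ≤ center _ := fun z h1 =>
    mem_center_iff.2 fun g => Subtype.ext (mem_center_iff.1 (hz ((hk z).1 h1)) g)
  let c : Cv 2 F' G' S := ⟨GF F' G', le_rfl, fun _ h _ => h, π, hs, hc⟩
  have he : ∀ x, π x ∈ D → ∃ j, x ^ 3 ^ j = 1 := fun x hx =>
    let ⟨_, hi⟩ := pelt_of_mem h.pg hx
    ⟨_, pelt (I := I) hk hi⟩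
  by_contra hm
  have hZ : IsPGroup 3 (zc D) := h.pg.to_le inf_le_left
  have nI : ∀ x, π x ∈ zc D → ¬ Ns x := fun x hx ns => by
    obtain ⟨j, hj⟩ := he x hx.1
    obtain ⟨y, hy, hN, hT⟩ := frame X' x hj
    refine hm (key c (X'.conj hy hN) (by norm_num) h (Z := {x}) (fun _ e => e ▸ hT) (fun _ e => ⟨j, e ▸ hj⟩)
      (fun _ e => e ▸ hx.1) ?_ fun a ha s j h1 h2 h3 h4 h5 => ns a ha s j h1 h2 h3 h4 (by rwa [Set.image_singleton] at h5))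
    rintro d hd _ ⟨_, rfl, rfl⟩
    exact ⟨_, rfl, (mul_inv_eq_iff_eq_mul.2 (hx.2 d hd)).symm⟩
  obtain ⟨E, h5, h6, h7, h8, h9⟩ | ⟨a, r, g, ha, hr, hg, h5, h6, h7, h8⟩ := dich hs hc (card_ker H hω hk) h.pg h4 h2
  · have h10 : ∀ a, π a ∈ E.map π → a ∈ E := fun a ⟨b, hb, e⟩ => by
      rw [← mul_inv_cancel_left b a]
      refine mul_mem hb (h5 (mem_comap.2 ?_))
      rw [map_mul, map_inv, e, inv_mul_cancel]
      exact one_mem _
    obtain ⟨x, hx, ns⟩ : ∃ x, π x ∈ E.map π ∧ Ns x := by_contra fun e =>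
      not_cube H hω hk (h.pg.to_le (map_le_iff_le_comap.2 h6)) (fun x hx ns => e ⟨x, hx, ns⟩) hs
        (fun a b ha hb => h7 a (h10 a ha) b (h10 b hb)) h9
    obtain ⟨a, ha, a1⟩ : ∃ a ∈ zc D, a ≠ 1 := (zc D).bot_or_exists_ne_one.resolve_left fun e => by
      rw [e, card_bot] at h2
      norm_num at h2
    obtain ⟨a, rfl⟩ := hs a
    obtain ⟨y, hy, hN, hT⟩ := tor H hω hk hZ nI ha a1 (Z := E) (h5 ha) (fun z hz => he z (h6 hz)) h7
    exact hm (key c (X'.conj hy hN) (by norm_num) h (Z := E) hT (fun z hz => he z (h6 hz)) h6 (norm_im c h8)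
      fun a ha s j h1 h2 h3 h4 h5 => ns a ha s j h1 h2 h3 h4 fun _ e => h5 _ ⟨x, h10 x hx, e.symm⟩)
  · exact h6 (two H hω hk hZ nI hc ha hr (ha.2 _ hg) h5 h7 h8)

end

/-- **`²E₆(2)`** -/
theorem te62 [Fact (Nat.Prime 3)] (K : Type) [Field K] [Fintype K] (h : Fintype.card K = 2 ^ 2) :
    RRow 3 ↥(twistedE6 K 2) := by
  have : Fact (Nat.Prime 2) := ⟨Nat.prime_two⟩
  have : CharP K 2 := charP_of_card_eq_prime_pow h
  obtain ⟨k, _, _, _, X, Y, _, N, _, _, ρ, F, X', θ, s, I, e, h1, h2, h3⟩ := hasP_2E6 (p := 2) (e := 1) h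
  have := X'.amb.finite_GF ⊤
  have : Finite ↥(twistedE6 K 2) := Finite.of_surjective _ s.surj
  exact rrow_of (sy_pk (pk6 X I e (fun u => (h1 u).trans (E6.co_eq _)) s.pi1) h3 s.surj h2.le) (zs_2e62 K h)

end Cfsg.Agent.RC.X
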