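import Cfsg.Agent.KM.Mu.Rows
import Cfsg.Agent.KM.Xc.Ab
import Cfsg.Agent.Lib.NormalAbelian

/-!
# RC (S4576), exceptional covers: local data of a defect group (helper12)

* `LocN p D`, `Mxl p D`, `rrow_of : Sy S → Zs S → RRow p S`;
* `mxl_of_two`, `key`, `mxl_of_tor` : the defect group is a Sylow subgroup;
* `dich` : a large normal subgroup with abelian lift.
-/

set_option autoImplicit false
set_option linter.unusedSectionVars false

namespace Cfsg.Agent.RC.X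

open Cfsg Cfsg.Agent.DL Cfsg.Agent.DL.Asm Subgroup Cfsg.Agent.BHZ.Spor Cfsg.Agent.KM Cfsg.Agent.KM.Mu Cfsg.Agent.KM.Xc

/-- the local data -/
structure LocN (p : ℕ) {S : Type} [Group S] (D : Subgroup S) : Prop where
  pg : IsPGroup p D
  syl : ∃ g : S, ¬ p ∣ orderOf g ∧ (∀ d ∈ D, Commute d g) ∧
    ∀ P : Subgroup S, IsPGroup p P → D ≤ P → (∀ k ∈ P, Commute k g) → P ≤ D
  core : ∀ U : Subgroup S, IsPGroup p U → (∀ x ∈ D, ∀ u ∈ U, x * u * x⁻¹ ∈ U) →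
    (∀ x : S, (∀ d ∈ D, Commute d x) → ∀ u ∈ U, x * u * x⁻¹ ∈ U) → U ≤ D

/-- a maximal `p`-subgroup -/
def Mxl (p : ℕ) {S : Type} [Group S] (D : Subgroup S) : Prop := ∀ P : Subgroup S, IsPGroup p P → D ≤ P → P ≤ D

/-- large local data are Sylow subgroups -/
def Sy (p : ℕ) (S : Type) [Group S] : Prop :=
  ∀ D : Subgroup S, LocN p D → p ^ 4 ∣ Nat.card D → p ^ 2 ∣ Nat.card (zc D) → Mxl p D

/-- the centre of a Sylow subgroup is small -/
def Zs (p : ℕ) (S : Type) [Group S] : Prop := ∀ D : Subgroup S, IsPGroup p D → Mxl p D → ¬ p ^ 2 ∣ Nat.card (zc D)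

section

variable {p : ℕ} [hp : Fact p.Prime] {S : Type} [Group S] [Finite S] {D : Subgroup S}

theorem locN_of_block {M : Ideal AlgInt} (hM : IsPModular p M) {B : Set (IrrCharacter S)} (hB : IsPBlock M B)
    (hD : IsDefectGroup p M B D) : LocN p D := by
  have hDp := BHZ.Nil.isPGroup_defect hD
  obtain ⟨g, hg, hgD, hmax⟩ := BHZ.Nil.exists_reg_defect hM hB hD
  have hgD' : ∀ d ∈ D, Commute d g := fun d hd => mem_centralizer_iff.1 hgD d hd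
  refine ⟨hDp, ⟨g, hg, hgD', fun P hP hle hc => (hmax P hP hle hc).le⟩, fun U hU h1 h2 => ?_⟩
  let C : Subgroup S := centralizer (D : Set S)
  have hW : (pCore p C).map C.subtype ≤ D := by
    have := Lib.Cores.pCore_characteristic (G := C) p
    refine BHZ.Nil.defect_rad hM hB hD ((Lib.Cores.pCore_isPGroup p).map _) (fun n hn => ?_)
      ((map_subtype_le _).trans (Subgroup.centralizer_le_normalizer _))
    refine mem_normalizer_fintype ?_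
    rintro _ ⟨w, hw, rfl⟩
    exact ⟨_, (characteristic_iff_map_le.1 this) (C.normalizerMonoidHom ⟨n, H644.mem_normalizer_centralizer hn⟩)
      ⟨w, hw, rfl⟩, rfl⟩
  have hUC : U ⊓ C ≤ D := by
    refine le_trans ?_ hW
    have h3 : U.subgroupOf C ≤ pCore p C := Lib.Cores.le_pCore
      ⟨fun u hu c => h2 c (fun d hd => mem_centralizer_iff.1 c.2 d hd) u hu⟩ hU.comap_subtype
    have h4 := map_mono (f := C.subtype) h3
    rwa [subgroupOf_map_subtype] at h4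
  have h5 := S0028.result p D (zpowers g) U hDp (by
      rw [Nat.card_zpowers]
      exact ((Nat.Prime.coprime_iff_not_dvd hp.out).2 hg).symm) hU
    (fun d hd => mem_centralizer_iff.2 fun w hw => commute_of_mem_zpowers (hgD' d hd).symm hw)
    (fun d hd => mem_normalizer_fintype (h1 d hd))
    (zpowers_le.2 (mem_normalizer_fintype (h2 g hgD')))
    (fun u hu => mem_centralizer_iff.2 fun w hw => commute_of_mem_zpowers (hgD' u (hUC hu)).symm hw)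
  exact le_sup_right.trans (hmax (D ⊔ U) (isPGroup_sup hDp hU h1) le_sup_left
    (commute_of_mem_sup hgD' fun u hu => mem_centralizer_iff.1 (h5 (mem_zpowers g)) u hu)).le

theorem LocN.quot (h : LocN p D) {T : Type} [Group T] (φ : S →* T) (hs : Function.Surjective φ)
    (hc : φ.ker ≤ center S) : LocN p (D.map φ) := by
  have hmap : ∀ (U : Subgroup T), IsPGroup p U → ∀ u ∈ U, ∃ a, φ a = u ∧ ∃ k : ℕ, a ^ p ^ k = 1 := fun U hU u hu =>
    let ⟨_, hk⟩ := pelt_of_mem hU hu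
    exists_p_lift hs hk
  refine ⟨h.pg.map φ, ?_, fun U hU h1 h2 u hu => ?_⟩
  · obtain ⟨g, hg, hgD, hmax⟩ := h.syl
    refine ⟨φ g, reg_map' hg, fun _ ⟨d, hd, e⟩ => e ▸ (hgD d hd).map φ, fun P hP hle hcP u hu => ?_⟩
    obtain ⟨P', hP', hPm⟩ := exists_plift (p := p) hc hP
    obtain ⟨a, rfl, ha⟩ := hmap P hP u hu
    exact ⟨a, hmax P' hP' (fun d hd => (hPm d).2 ⟨hle ⟨d, hd, rfl⟩, pelt_of_mem h.pg hd⟩) (fun k hk =>
      let ⟨h2, _, hj⟩ := (hPm k).1 hk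
      commute_p_reg hc (hcP _ h2) hj hg) ((hPm a).2 ⟨hu, ha⟩), rfl⟩
  · obtain ⟨U', hU', hUm⟩ := exists_plift (p := p) hc hU
    have h3 : ∀ x, (∀ u ∈ U, φ x * u * (φ x)⁻¹ ∈ U) → ∀ u ∈ U', x * u * x⁻¹ ∈ U' := fun x hx u hu => by
      obtain ⟨h4, k, hk⟩ := (hUm u).1 hu
      refine (hUm _).2 ⟨?_, k, by rw [conj_pow, hk]; simp⟩
      rw [map_mul, map_mul, map_inv]
      exact hx _ h4
    obtain ⟨a, rfl, ha⟩ := hmap U hU u hu
    exact ⟨a, h.core U' hU' (fun x hx => h3 x (h1 _ ⟨x, hx, rfl⟩))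
      (fun x hx => h3 x (h2 _ fun _ ⟨d, hd, e⟩ => e ▸ (hx d hd).map φ)) ((hUm a).2 ⟨hu, ha⟩), rfl⟩

/-- **the row** -/
theorem rrow_of (h1 : Sy p S) (h2 : Zs p S) : RRow p S := fun _ _ _ σ _ _ D _ H => by
  obtain ⟨W, hW, h3⟩ := H.exists_cn
  have h4 : p ^ 2 ∣ Nat.card (zc (D.map σ)) := ((hp.out.pow_dvd_iff_le_factorization Nat.card_pos.ne').2 h3).trans
    (card_dvd_of_le fun w hw => ⟨hW.1 hw, fun d hd => (hW.2 w hw d hd).symm⟩)
  exact absurd h4 (h2 _ (H.pg.map σ) (h1 _ ((locN_of_block H.hM H.hB H.hD).quot σ H.surj H.ker.le)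
    ((hp.out.pow_dvd_iff_le_factorization Nat.card_pos.ne').2 H.four_le) h4))

theorem LocN.mxl (h : LocN p D) (h1 : ∀ g : S, ¬ p ∣ orderOf g → (∀ d ∈ D, Commute d g) → g = 1) : Mxl p D :=
  let ⟨g, hg, hgD, hmax⟩ := h.syl
  fun P hP hle => hmax P hP hle fun x _ => h1 g hg hgD ▸ Commute.one_right x

/-- **`{r, p}`-centralisers** -/
theorem mxl_of_two {r : ℕ} (hr : r.Prime) (h : LocN p D) {A : Set S} (hA : A ⊆ D)
    (hn : ∀ d ∈ D, ∀ a ∈ A, d * a * d⁻¹ ∈ A)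
    (h1 : ∀ x ∈ centralizer A, (orderOf x).Prime → orderOf x = r ∨ orderOf x = p)
    (h2 : ∀ U : Subgroup S, IsPGroup r U → U ≤ centralizer A → (∀ x ∈ centralizer A, ∀ u ∈ U, x * u * x⁻¹ ∈ U) →
      U = ⊥) : Mxl p D := by
  let C : Subgroup S := centralizer A
  have h3 : ∀ s : ℕ, s.Prime → s ∣ Nat.card C → s = r ∨ s = p := fun s hs hd => by
    have : Fact s.Prime := ⟨hs⟩
    obtain ⟨x, hx⟩ := exists_prime_orderOf_dvd_card' s hd
    rw [← Subgroup.orderOf_coe] at hx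
    exact hx ▸ h1 x x.2 (hx ▸ hs)
  obtain ⟨a, b, e⟩ := exists_two Nat.card_pos.ne' h3
  have hs : Group.IsSolvable C := S0144.result r p a b hr hp.out e
  have hnorm : ∀ K : Subgroup C, K.Normal → ∀ x ∈ C, ∀ u ∈ K.map C.subtype, x * u * x⁻¹ ∈ K.map C.subtype := by
    rintro K hK x hx _ ⟨u, hu, rfl⟩
    exact ⟨_, hK.conj_mem u hu ⟨x, hx⟩, rfl⟩
  have h4 : pPrimeCore p C = ⊥ := by
    have h5 := Lib.Cores.pPrimeCore_coprime (G := C) p
    obtain ⟨i, j, e'⟩ := exists_two (p := r) (l := r) (n := Nat.card (pPrimeCore p C)) Nat.card_pos.ne'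
      fun s hs hd => Or.inl ((h3 s hs (hd.trans (card_subgroup_dvd_card _))).resolve_right fun h6 =>
        hs.one_lt.ne' (Nat.eq_one_of_dvd_coprimes h5 hd (h6 ▸ dvd_rfl)))
    rw [← pow_add] at e'
    exact (map_eq_bot_iff_of_injective _ (subtype_injective C)).1 (h2 _ ((IsPGroup.of_card e').map C.subtype)
      (map_subtype_le _) (hnorm _ (Lib.Cores.pPrimeCore_normal p)))
  have h5 := S0017.result p h4
  have hD : ∀ x : S, (∀ d ∈ D, Commute d x) → x ∈ C := fun x hx => mem_centralizer_iff.2 fun d hd => hx d (hA hd)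
  have h6 := h.core _ ((Lib.Cores.pCore_isPGroup p).map C.subtype) (fun d hd _ ⟨w, hw, e⟩ => e ▸
    ⟨_, (characteristic_iff_map_le.1 (Lib.Cores.pCore_characteristic (G := C) p)) (C.normalizerMonoidHom
      ⟨d, mem_normalizer_fintype fun c hc a ha => by
        have h7 := hc _ (hn d⁻¹ (inv_mem hd) a ha)
        calc _ = d * (d⁻¹ * a * d⁻¹⁻¹ * c) * d⁻¹ := by group
          _ = _ := by rw [h7]; group⟩) ⟨w, hw, rfl⟩, rfl⟩)
    fun x hx => hnorm _ (Lib.Cores.pCore_normal p) x (hD x hx)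
  refine h.mxl fun g hg hgD => ?_
  obtain ⟨j, hj⟩ := pelt_of_mem (Lib.Cores.pCore_isPGroup p) (show (⟨g, hD g hgD⟩ : C) ∈ pCore p C from
    h5 (mem_centralizer_iff.2 fun u hu => Subtype.ext (hgD u (h6 ⟨u, hu, rfl⟩))))
  exact eq_one_of_reg hg (congrArg Subtype.val hj)

theorem exists_cmod (hD : IsPGroup p D) {A C : Subgroup S} (hC : C ≤ D) (h1 : ∀ g ∈ D, ∀ a ∈ A, g * a * g⁻¹ ∈ A)
    (h2 : ∀ g ∈ D, ∀ a ∈ C, g * a * g⁻¹ ∈ C) (h : ¬ C ≤ A) : ∃ x ∈ C, x ∉ A ∧ ∀ g ∈ D, x * g * x⁻¹ * g⁻¹ ∈ A := by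
  have := hD.isNilpotent
  obtain ⟨x, h3, h4, h5⟩ := Lib.NormalAbelian.exists_mem_not_mem_central_mod (A := A.subgroupOf D) (C := C.subgroupOf D)
    ⟨fun a ha g => h1 g g.2 a ha⟩ ⟨fun a ha g => h2 g g.2 a ha⟩ fun e => h fun c hc => e (x := ⟨c, hC hc⟩) hc
  exact ⟨x, h3, h4, fun g hg => h5 ⟨g, hg⟩⟩

omit hp in
theorem zc_norm {U : Subgroup S} (h : ∀ g ∈ D, ∀ u ∈ U, g * u * g⁻¹ ∈ U) : ∀ g ∈ D, ∀ u ∈ zc U, g * u * g⁻¹ ∈ zc U :=
  fun g hg u hu => ⟨h g hg u hu.1, fun v hv => by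
    have h1 := hu.2 _ (h g⁻¹ (inv_mem hg) v hv)
    calc _ = g * (g⁻¹ * v * g⁻¹⁻¹ * u) * g⁻¹ := by group
      _ = _ := by rw [h1]; group⟩

omit hp in
theorem cen_norm {U : Subgroup S} (hU : U ≤ D) (h : ∀ g ∈ D, ∀ u ∈ U, g * u * g⁻¹ ∈ U) {x : S}
    (hx : ∀ g ∈ D, g * x * g⁻¹ * x⁻¹ ∈ centralizer (D : Set S)) :
    ∀ g ∈ D, ∀ u ∈ U ⊓ centralizer {x}, g * u * g⁻¹ ∈ U ⊓ centralizer {x} :=
  fun g hg u hu => ⟨h g hg u hu.1, mem_centralizer_singleton_iff.2 (by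
    have h1 := hx _ (inv_mem hg) u (hU hu.1)
    have h2 := mem_centralizer_singleton_iff.1 hu.2
    calc _ = g * (u * (g⁻¹ * x * g⁻¹⁻¹ * x⁻¹)) * x * g⁻¹ := by group
      _ = g * (g⁻¹ * x * g⁻¹⁻¹ * x⁻¹) * (u * x) * g⁻¹ := by rw [h1]; group
      _ = _ := by rw [h2]; group)⟩

/-- **a large normal subgroup with abelian lift, or three elements** -/
theorem dich {H : Type} [Group H] [Finite H] {π : H →* S} (hs : Function.Surjective π) (hk : π.ker ≤ center H)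
    (h3 : Nat.card π.ker ∣ p) (hD : IsPGroup p D) (h4 : p ^ 4 ∣ Nat.card D) (h2 : p ^ 2 ∣ Nat.card (zc D)) :
    (∃ E : Subgroup H, (zc D).comap π ≤ E ∧ E ≤ D.comap π ∧ (∀ a ∈ E, ∀ b ∈ E, a * b = b * a) ∧
      (∀ g ∈ D.comap π, ∀ a ∈ E, g * a * g⁻¹ ∈ E) ∧ p ^ 3 ∣ Nat.card (E.map π)) ∨
    ∃ a r g : H, π a ∈ zc D ∧ π r ∈ zc D ∧ π g ∈ D ∧ g * a ≠ a * g ∧ π r ≠ 1 ∧ r * a = a * r ∧ r * g = g * r := by
  have hK : IsPGroup p π.ker := by
    obtain h | h := (Nat.dvd_prime hp.out).1 h3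
    · exact IsPGroup.of_card (n := 0) h
    · exact IsPGroup.of_card (n := 1) (h.trans (pow_one p).symm)
  have hV := hD.comap_of_ker_isPGroup π hK
  set V := D.comap π
  set Z := (zc D).comap π
  have hZ : Z ≤ V := comap_mono inf_le_left
  have nV : ∀ g ∈ V, ∀ u ∈ V, g * u * g⁻¹ ∈ V := fun g hg u hu => mul_mem (mul_mem hg hu) (inv_mem hg)
  have hc : ∀ a ∈ Z, ∀ g ∈ V, g * a * g⁻¹ * a⁻¹ ∈ π.ker := fun a ha g hg => by
    rw [MonoidHom.mem_ker, map_mul, map_mul, map_mul, map_inv, map_inv, ha.2 _ hg]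
    group
  have nZ : ∀ g ∈ V, ∀ u ∈ Z, g * u * g⁻¹ ∈ Z := fun g hg u hu => by
    rw [mem_comap, map_mul, map_mul, map_inv, hu.2 _ hg, mul_inv_cancel_right]
    exact hu
  have big : ∀ C : Subgroup H, p ^ 2 ∣ Nat.card C → ¬ C ≤ π.ker := fun C h e => by
    have h5 := Nat.le_of_dvd hp.out.pos ((h.trans (card_dvd_of_le e)).trans h3)
    have := hp.out.one_lt
    nlinarith
  by_cases h5 : ∀ a ∈ Z, ∀ g ∈ V, g * a = a * g
  · left
    by_cases h6 : V ≤ Z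
    · refine ⟨V, hZ, le_rfl, fun a ha b hb => h5 b (h6 hb) a ha, nV, ?_⟩
      rw [map_comap_eq_self_of_surjective hs]
      exact (pow_dvd_pow p (by norm_num)).trans h4
    obtain ⟨x, h7, h8, h9⟩ := exists_cmod hV le_rfl nZ nV h6
    have h10 : Z ≤ zc (V ⊓ centralizer {x}) := fun a ha => zc_le_zc h7 ⟨hZ ha, h5 a ha⟩
    refine ⟨zc (V ⊓ centralizer {x}), h10, inf_le_left.trans inf_le_left, fun a ha b hb => hb.2 a ha.1,
      zc_norm (cen_norm le_rfl nV fun g hg => ?_), pow_succ_dvd ((hV.to_le (inf_le_left.trans inf_le_left)).map π)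
        ((map_comap_eq_self_of_surjective hs _).ge.trans (map_mono h10)) ⟨x, mem_zc h7, rfl⟩ h8 h2⟩
    rw [show g * x * g⁻¹ * x⁻¹ = (x * g * x⁻¹ * g⁻¹)⁻¹ by group]
    exact h5 _ (inv_mem (h9 g hg))
  right
  by_cases h6 : ∀ a ∈ Z, ∀ g ∈ Z, g * a = a * g
  · push Not at h5
    obtain ⟨a, ha, g, hg, h5⟩ := h5
    have h7 := card_dvd_cen hk (V := Z) (a := g) fun z hz => by
      rw [show z * g * z⁻¹ * g⁻¹ = (g * z * g⁻¹ * z⁻¹)⁻¹ by group]
      exact inv_mem (hc z hz g hg)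
    rw [card_comap hs] at h7
    obtain ⟨r, h8, h9⟩ := SetLike.not_le_iff_exists.1 (big _ (h2.trans (Nat.dvd_of_mul_dvd_mul_right Nat.card_pos h7)))
    exact ⟨a, r, g, ha, h8.1, hg, h5, h9, h6 a ha r h8.1, mem_centralizer_singleton_iff.1 h8.2⟩
  push Not at h6
  obtain ⟨a, ha, g, hg, h6⟩ := h6
  have h7 := card_dvd_cen hk (hc a ha)
  have h8 := card_dvd_cen hk (V := V ⊓ centralizer {a}) fun x hx => hc g hg x hx.1
  rw [card_comap hs] at h7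
  have h9 := ((h4.trans (Nat.dvd_of_mul_dvd_mul_right Nat.card_pos h7)).trans h8).trans (Nat.mul_dvd_mul_left _ h3)
  have kc : ∀ a ∈ Z, ∀ g ∈ V, g * a * g⁻¹ * a⁻¹ ∈ centralizer (V : Set H) := fun a ha g hg v _ =>
    mem_center_iff.1 (hk (hc a ha g hg)) v
  obtain ⟨r, h10, h11, h12⟩ := exists_cmod hV (A := π.ker) (inf_le_left.trans inf_le_left)
    (fun g _ a ha => π.normal_ker.conj_mem a ha g)
    (cen_norm inf_le_left (cen_norm le_rfl nV (kc a ha)) (kc g hg))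
    (big _ ((pow_dvd_pow p (by norm_num)).trans (Nat.dvd_of_mul_dvd_mul_right hp.out.pos (pow_succ p 3 ▸ h9))))
  refine ⟨a, r, g, ha, ⟨h10.1.1, fun d hd => ?_⟩, hZ hg, h6, h11, mem_centralizer_singleton_iff.1 h10.1.2,
    mem_centralizer_singleton_iff.1 h10.2⟩
  obtain ⟨d, rfl⟩ := hs d
  have h13 := h12 d hd
  rwa [MonoidHom.mem_ker, map_mul, map_mul, map_mul, map_inv, map_inv, mul_inv_eq_one, mul_inv_eq_iff_eq_mul,
    eq_comm] at h13

end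

variable {p : ℕ} [Fact p.Prime] {k : Type} [Field k] [CharP k p] {Y : Type} [Group Y] {N : Type} [Fintype N]
  [DecidableEq N] {ρ : Y →* GL N k} {F : MulAut Y} {G : Subgroup Y} [IsAlgClosed k]
  {S : Type} [Group S] (c : Cv p F G S) (X : Datum p ρ F G) {l : ℕ} [hl : Fact l.Prime]

/-- **The key lemma.** -/
theorem key (hlp : l ≠ p) {D : Subgroup S} (h : LocN l D)
    {Z : Set c.H0} (hT : ∀ z ∈ Z, (z : Y) ∈ X.T) (he : ∀ z ∈ Z, ∃ j : ℕ, z ^ l ^ j = 1) (hD : ∀ z ∈ Z, c.π z ∈ D)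
    (hn : ∀ d ∈ D, ∀ a ∈ c.π '' Z, d * a * d⁻¹ ∈ c.π '' Z) (ns : c.NS l (Subtype.val '' Z)) : Mxl l D := by
  have := c.fin X
  have : Finite S := Finite.of_surjective _ c.surj
  have hp : p.Prime := Fact.out
  have hZ : Subtype.val '' Z ⊆ X.T := by
    rintro _ ⟨z, hz, rfl⟩
    exact hT z hz
  have hcm : ∀ (a : c.H0) (s j : ℕ), s.Prime → s ≠ l → a ^ s ^ j = 1 → c.π a ∈ centralizer (c.π '' Z) →
      (a : Y) ∈ centralizer (Subtype.val '' Z) := fun a s j hs hsl hj ha => by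
    refine mem_centralizer_iff.2 ?_
    rintro _ ⟨z, hz, rfl⟩
    obtain ⟨i, hi⟩ := he z hz
    refine congrArg Subtype.val (commute_p_reg c.ker (mem_centralizer_iff.1 ha _ ⟨z, hz, rfl⟩) hi
      (not_dvd_of_pow (fun h1 => ?_) hj))
    exact hsl ((Nat.prime_dvd_prime_iff_eq hl.out hs).1 (hl.out.dvd_of_dvd_pow h1)).symm
  refine mxl_of_two hp h (A := c.π '' Z) (by rintro _ ⟨z, hz, rfl⟩; exact hD z hz) hn (fun x hx ho => ?_)
    fun U hU hUC hn => ?_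
  · by_contra h1
    rw [not_or] at h1
    have : Fact (orderOf x).Prime := ⟨ho⟩
    obtain ⟨a, rfl, j, hj⟩ := exists_p_lift (p := orderOf x) c.surj (x := x) (k := 1)
      (by rw [pow_one, pow_orderOf_eq_one])
    have h2 := ns a a.2 _ j ho h1.1 h1.2 (congrArg Subtype.val hj) (hcm a _ j ho h1.2 hj hx)
    rw [show a = 1 from Subtype.ext h2, map_one, orderOf_one] at ho
    exact Nat.not_prime_one ho
  · obtain ⟨V, hV, hm⟩ := exists_plift (p := p) c.ker hU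
    have hF : ∀ z ∈ Subtype.val '' Z, F z ∈ Subtype.val '' Z := by
      rintro _ ⟨z, hz, rfl⟩
      rw [(mem_GF.1 (c.le z.2)).2]
      exact ⟨z, hz, rfl⟩
    have h1 := eq_bot_of_norm (X.sub hZ (fun _ => X.g_mem_Sz hZ hF) rfl) (V := V.map c.H0.subtype) ?_ (hV.map _) ?_
    · refine eq_bot_iff.2 fun u hu => ?_
      obtain ⟨j, hj⟩ := pelt_of_mem hU hu
      obtain ⟨a, rfl, ha⟩ := exists_p_lift c.surj hj
      have h2 : (a : Y) ∈ V.map c.H0.subtype := ⟨a, (hm a).2 ⟨hu, ha⟩, rfl⟩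
      rw [h1] at h2
      rw [show a = 1 from Subtype.ext h2, map_one]
      exact one_mem _
    · rintro _ ⟨a, ha, rfl⟩
      obtain ⟨h2, j, hj⟩ := (hm a).1 ha
      refine ⟨X.mem_cen_of_pow hZ (c.le a.2).1 (hcm a p j hp hlp.symm hj (hUC h2)) (j := j) ?_, (c.le a.2).2⟩
      rw [show (c.H0.subtype a) ^ p ^ j = 1 from congrArg Subtype.val hj]
      exact one_mem _
    · rintro u hu hj _ ⟨a, ha, rfl⟩
      have hu0 : u ∈ c.H0 := c.uni u ⟨X.cen_le_G _ hu.1, hu.2⟩ hj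
      obtain ⟨h2, j, h3⟩ := (hm a).1 ha
      refine ⟨⟨u, hu0⟩ * a * (⟨u, hu0⟩ : c.H0)⁻¹, (hm _).2 ⟨?_, j, by rw [conj_pow, h3]; simp⟩, rfl⟩
      rw [map_mul, map_mul, map_inv]
      refine hn _ (mem_centralizer_iff.2 ?_) _ h2
      rintro _ ⟨z, hz, rfl⟩
      rw [← map_mul, ← map_mul]
      exact congrArg c.π (Subtype.ext (mem_centralizer_iff.1 (X.cen_le_centralizer hZ hu.1) _ ⟨z, hz, rfl⟩))

theorem norm_im {D : Subgroup S} {E : Subgroup c.H0} (hn : ∀ g ∈ D.comap c.π, ∀ a ∈ E, g * a * g⁻¹ ∈ E) :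
    ∀ d ∈ D, ∀ a ∈ c.π '' E, d * a * d⁻¹ ∈ c.π '' E := by
  rintro d hd _ ⟨a, ha, rfl⟩
  obtain ⟨d, rfl⟩ := c.surj d
  exact ⟨_, hn d hd a ha, by rw [map_mul, map_mul, map_inv]⟩

/-- **a large toral subgroup** -/
theorem mxl_of_tor (hlp : l ≠ p) {D : Subgroup S} (h : LocN l D) {m : ℕ} (hb : c.TB X l m) {E : Subgroup c.H0}
    (hE : IsPGroup l E) (hm : m ∣ Nat.card E) (hD : E ≤ D.comap c.π) (hn : ∀ g ∈ D.comap c.π, ∀ a ∈ E, g * a * g⁻¹ ∈ E)
    {T : Subgroup Y} (hT : T ∈ tori X) (hle : ∀ z ∈ E, (z : Y) ∈ T) : Mxl l D := by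
  obtain ⟨y, hy, rfl, h1⟩ := hT
  have hN := (X.stable_iff hy).1 h1
  refine key c (X.conj hy hN) hlp h (Z := E) hle (fun z hz => pelt_of_mem hE hz) hD (norm_im c hn)
    (c.ns_of_tb (X.conj hy hN) ?_ hE hm hle)
  intro T hT
  rw [X.tori_conj] at hT
  exact hb T hT

end Cfsg.Agent.RC.X
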