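import Cfsg.Agent.RC.X.Loc
import Cfsg.Agent.KM.Tor.K0
import Cfsg.Agent.TO.E6.Tool

/-!
# RC (S4576), exceptional covers: the centre of a Sylow `3`-subgroup (helper12)

`RT` : orthogonal subsystems of type `A₂` around one node; `zs_of` : the centre of a Sylow `3`-subgroup has order at
most three when `F` acts on a torus as `t ↦ t⁻²`.
-/

set_option autoImplicit false
set_option linter.unusedSectionVars false

namespace Cfsg.Agent.RC.X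

open Cfsg Cfsg.Agent.DL Subgroup Cfsg.Agent.BHZ.Spor Cfsg.Agent.KM Cfsg.Agent.KM.Xc Cfsg.Agent.KM.Tor Matrix
  Cfsg.Agent.Nodes.Reps Cfsg.Agent.Nodes.Coroot Cfsg.Agent.Tits.Roots Cfsg.Agent.Nodes.BNOf
open Cfsg.Agent.TO.X.Cn (χ_exp rp_pow)

variable {k : Type} [Field k] [Fact (Nat.Prime 2)] [CharP k 2] [IsAlgClosed k] {Y : Type} [Group Y] {N : Type} [Fintype N]
  [DecidableEq N] {ρ : Y →* GL N k} {F : MulAut Y} {G : Subgroup Y} (X : Datum 2 ρ F G)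

/-- orthogonal subsystems of type `A₂` around the node `a₀` -/
structure RT {ι : Type} (α β : ι → X.I → ℤ) (a₀ : X.I → ℤ) : Prop where
  inj : ∀ a b, X.Rt a → X.Rt b → (∀ d, X.Rt d → 3 ∣ cpr X.cs X.h a d - cpr X.cs X.h b d) → a = b
  ra : ∀ i, X.Rt (α i)
  rb : ∀ i, X.Rt (β i)
  r0 : X.Rt a₀
  ab : ∀ i, cpr X.cs X.h (α i) (β i) = -1
  ba : ∀ i, cpr X.cs X.h (β i) (α i) = -1
  or : ∀ i j, i ≠ j → cpr X.cs X.h (α i) (α j) = 0 ∧ cpr X.cs X.h (α i) (β j) = 0 ∧ cpr X.cs X.h (β i) (α j) = 0 ∧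
    cpr X.cs X.h (β i) (β j) = 0
  c0 : ∀ i, cpr X.cs X.h a₀ (β i) = 0 ∧ ¬ 3 ∣ cpr X.cs X.h a₀ (α i)
  gen : ∀ j, sr j = a₀ ∨ ∃ i, sr j = α i ∨ sr j = β i

variable {X} {ι : Type} {α β : ι → X.I → ℤ} {a₀ a b : X.I → ℤ}

theorem rf_comm (ha : X.Rt a) (hb : X.Rt b) (h : cpr X.cs X.h a b = 0) : Commute (X.rf a) (X.rf b) := by
  have h1 := X.rf_act' (X.rf b) ha
  rw [X.act_rf hb, h, zero_smul, sub_zero] at h1
  exact eq_mul_inv_iff_mul_eq.1 h1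

theorem rf_cube (ha : X.Rt a) (hb : X.Rt b) (h1 : cpr X.cs X.h a b = -1) (h2 : cpr X.cs X.h b a = -1) :
    (X.rf a * X.rf b) ^ 3 = 1 := by
  have h3 := X.rf_act' (X.rf b) ha
  have h4 := X.rf_act' (X.rf a) hb
  rw [X.act_rf hb, h1, neg_one_smul, sub_neg_eq_add, inv_eq_of_mul_eq_one_right (X.rf_mul_self hb)] at h3
  rw [X.act_rf ha, h2, neg_one_smul, sub_neg_eq_add, add_comm, h3, inv_eq_of_mul_eq_one_right (X.rf_mul_self ha)] at h4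
  calc _ = X.rf a * X.rf b * X.rf a * (X.rf b * X.rf a * X.rf b) := by simp only [pow_succ, pow_zero, one_mul, mul_assoc]
    _ = X.rf a * (X.rf b * (X.rf a * X.rf a) * X.rf b) * X.rf a := by rw [h4]; simp only [mul_assoc]
    _ = 1 := by rw [X.rf_mul_self ha, mul_one, X.rf_mul_self hb, mul_one, X.rf_mul_self ha]

theorem RT.cube (H : RT X α β a₀) {w : X.W} (hw : w ∈ closure (Set.range fun i => X.rf (α i) * X.rf (β i))) :
    w ^ 3 = 1 := by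
  have h1 : ∀ x ∈ Set.range fun i => X.rf (α i) * X.rf (β i), ∀ y ∈ Set.range fun i => X.rf (α i) * X.rf (β i),
      x * y = y * x := by
    rintro _ ⟨i, rfl⟩ _ ⟨j, rfl⟩
    rcases eq_or_ne i j with rfl | e
    · rfl
    obtain ⟨e1, e2, e3, e4⟩ := H.or i j e
    exact ((rf_comm (H.ra i) (H.ra j) e1).mul_right (rf_comm (H.ra i) (H.rb j) e2)).mul_left
      ((rf_comm (H.rb i) (H.ra j) e3).mul_right (rf_comm (H.rb i) (H.rb j) e4))
  induction hw using closure_induction with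
  | mem x hx => obtain ⟨i, rfl⟩ := hx; exact rf_cube (H.ra i) (H.rb i) (H.ab i) (H.ba i)
  | one => exact one_pow 3
  | mul x y hx hy e e' =>
    rw [Commute.mul_pow (congrArg Subtype.val ((isMulCommutative_closure h1).is_comm.comm ⟨x, hx⟩ ⟨y, hy⟩)), e, e', one_mul]
  | inv x _ e => rw [inv_pow, e, inv_one]

theorem cen_chi {z : Y} (hz : z ∈ G) (h : ∀ y ∈ G, y * z = z * y) : z ∈ X.T ∧ ∀ a, X.Rt a → X.χ a z = 1 := by
  have h1 : z ∈ X.T := X.centralizer_T.le ⟨hz, fun t ht => h t (X.T_le_G ht)⟩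
  refine ⟨h1, fun a ha => ?_⟩
  have h2 := X.tor' ha h1 1
  rw [← h _ (X.X_le_G ha (X.x_mem ha 1)), mul_inv_cancel_right, mul_one] at h2
  exact (X.x_inj a ha h2).symm

variable (hM : X.Mx = (-2 : ℤ) • 1)
include hM

theorem fix_iff {t : Y} (ht : t ∈ X.T) : F t = t ↔ t ^ 3 = 1 := by
  obtain ⟨c, rfl⟩ := (X.mem_T t).1 ht
  rw [X.F_τ, hM, mon_zsmul, mon_one, map_zpow, eq_comm, ← mul_inv_eq_one, ← _root_.zpow_neg, neg_neg, pow_succ', zpow_ofNat]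

theorem exists_inv (ha : X.Rt a) : ∃ n ∈ GF F G, X.Rp (X.rf a) n ∧ n ^ 2 ^ 1 = 1 := by
  have h1 := X.Mx_Wm (X.rf a)
  rw [hM, smul_mul_assoc, mul_smul_comm, one_mul, mul_one] at h1
  obtain ⟨m, hm, h2⟩ := X.exists_rp_fix (X.Wm_injective (smul_right_injective _ (by norm_num) h1)).symm
  have h3 := hm.mul hm
  have h4 := h3.mul hm
  rw [X.rf_mul_self ha] at h3 h4
  have h5 := (fix_iff hM h3.mem_of_one).1 (by rw [map_mul, h2])
  refine ⟨m * m * m, mul_mem (mul_mem ⟨hm.mem_G, h2⟩ ⟨hm.mem_G, h2⟩) ⟨hm.mem_G, h2⟩, one_mul (X.rf a) ▸ h4, ?_⟩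
  rw [← h5, ← pow_three', ← sq, ← pow_mul, ← pow_mul]
  rfl

variable {S : Type} [Group S] (c : Cv 2 F G S) (hk : ∀ h : c.H0, c.π h = 1 ↔ ∀ y ∈ G, y * h = h * y)

theorem cor_mem {ω : kˣ} (hω : orderOf ω = 3) (ha : X.Rt a) : X.τ (coch (X.cor a) ω) ∈ c.H0 := by
  obtain ⟨n, h1, h2, h3⟩ := exists_inv hM ha
  have h4 : X.τ (coch (X.cor a) ω) ^ 3 = 1 := by
    rw [← map_pow, ← map_pow, ← hω, pow_orderOf_eq_one, map_one, map_one]
  have h5 : X.τ (coch (X.cor a) ω) ∈ GF F G := ⟨X.T_le_G (X.τ_mem _), (fix_iff hM (X.τ_mem _)).2 h4⟩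
  have h6 := X.conj_τ h2 (coch (X.cor a) ω)
  rw [mon_coch, ← X.cor_act _ ha, X.act_rf_self ha, X.cor_neg ha, coch_neg, map_inv] at h6
  generalize X.τ (coch (X.cor a) ω) = t at *
  have h7 := mul_mem (c.uni (t * n⁻¹ * t⁻¹) (mul_mem (mul_mem h5 (inv_mem h1)) (inv_mem h5))
    ⟨1, by rw [conj_pow, inv_pow, h3]; simp⟩) (c.uni n h1 ⟨1, h3⟩)
  have h8 : n⁻¹ * t⁻¹ * n = t := by rw [← h6]; group
  rw [mul_assoc, mul_assoc, ← mul_assoc n⁻¹, h8] at h7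
  have h9 := mul_mem h7 h7
  rwa [← mul_assoc, ← pow_three', h4, one_mul] at h9

include hk

omit hM in
theorem comm_cen {x t : c.H0} (h : c.π x * c.π t = c.π t * c.π x) : ∃ z ∈ X.T, (∀ a, X.Rt a → X.χ a z = 1) ∧
    (x : Y) * t * (x : Y)⁻¹ = z * t := by
  obtain ⟨h1, h2⟩ := cen_chi (X := X) (c.le (x * t * x⁻¹ * t⁻¹).2).1 ((hk _).1 (by
    rw [map_mul, map_mul, map_mul, map_inv, map_inv, h]; group))
  exact ⟨_, h1, h2, (inv_mul_cancel_right _ _).symm⟩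

omit hM in
theorem chi_act {x t : c.H0} (h : c.π x * c.π t = c.π t * c.π x) {w : X.W} (hw : X.Rp w x) (ht : (t : Y) ∈ X.T)
    (ha : X.Rt a) : X.act w a - a ∈ X.Lam {t.1} := by
  obtain ⟨z, h1, h2, h3⟩ := comm_cen (X := X) c hk h
  have h4 := X.χ_rp hw a ht
  rw [h3, X.χ_mul _ h1 ht, h2 _ (ha.act w), one_mul] at h4
  rintro _ rfl
  rw [sub_eq_add_neg, X.χ_add, X.χ_neg, h4, mul_inv_cancel₀ (X.χ_ne_zero _ _)]

theorem RT.mem_T (H : RT X α β a₀) {x : c.H0} (h : ∀ t : c.H0, (t : Y) ∈ X.T → c.π x * c.π t = c.π t * c.π x) :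
    (x : Y) ∈ X.T := by
  obtain ⟨ω, hω⟩ := exists_prim 2 k (n := 3) (by norm_num)
  let s : {a // X.Rt a} → c.H0 := fun a => ⟨_, cor_mem hM c hω a.2⟩
  have h1 : ∀ (a : X.I → ℤ) (d : {a // X.Rt a}), X.χ a (s d) = 1 ↔ 3 ∣ cpr X.cs X.h a d := fun a d => by
    rw [← X.pair_cor d.2]
    exact (χ_exp X a _ ω).trans (by rw [hω]; rfl)
  choose z z1 z2 z3 using fun d => comm_cen (X := X) c hk (h (s d) (X.τ_mem _))
  obtain ⟨u, hu, m, hm, -, e⟩ := X.exists_conj_form (s := fun d => s d) (t := fun d => z d * s d) (fun _ => X.τ_mem _)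
    (fun d => mul_mem (z1 d) (X.τ_mem _)) (c.le x.2).1 fun d => mul_inv_eq_iff_eq_mul.1 (z3 d)
  have h2 : u = 1 := mem_bot.1 ((RGD.Sup_le fun a ha => by
    have h3 := ha.2 _ ⟨⟨a, ha.1⟩, rfl⟩
    rw [X.χ_mul _ (z1 _) (X.τ_mem _), z2 _ a ha.1, one_mul, h1, cpr_self X.cs X.h ha.1] at h3
    omega) hu)
  rw [h2, one_mul] at e
  obtain ⟨w, hw⟩ := e ▸ hm
  obtain rfl : w = 1 := X.act_eq_one fun i => H.inj _ _ ((isRoot_sr _ _ i).act w) (isRoot_sr _ _ i) fun d hd => by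
    have h3 := (h1 _ ⟨d, hd⟩).1 (chi_act c hk (h (s ⟨d, hd⟩) (X.τ_mem _)) hw (X.τ_mem _) (isRoot_sr _ _ i) _ rfl)
    rwa [sub_eq_add_neg, cpr_add _ _ _ _ hd, cpr_neg _ _ _ hd, ← sub_eq_add_neg] at h3
  exact hw.mem_of_one

/-- a `3`-subgroup with small centraliser -/
theorem RT.exists_Q (H : RT X α β a₀) : ∃ Q : Subgroup S, IsPGroup 3 Q ∧ Nat.card (centralizer (Q : Set S)) ≤ 3 := by
  let Q : Subgroup c.H0 :=
    { carrier := {q | ∃ w ∈ closure (Set.range fun i => X.rf (α i) * X.rf (β i)), X.Rp w q}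
      one_mem' := ⟨1, one_mem _, rp_one⟩
      mul_mem' := fun ⟨v, h1, h2⟩ ⟨w, h3, h4⟩ => ⟨_, mul_mem h1 h3, h2.mul h4⟩
      inv_mem' := fun ⟨w, h1, h2⟩ => ⟨_, inv_mem h1, h2.inv⟩ }
  have h1 : IsPGroup 3 Q := fun ⟨q, w, h1, h2⟩ => ⟨2, Subtype.ext (Subtype.ext (by
    have h3 := rp_pow X h2 3
    rw [H.cube h1] at h3
    exact (pow_mul q.1 3 3).trans ((fix_iff hM h3.mem_of_one).1 (mem_GF.1 (c.le (q ^ 3).2)).2)))⟩
  refine ⟨Q.map c.π, h1.map _, ?_⟩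
  have h2 : ∀ x : c.H0, c.π x ∈ centralizer (Q.map c.π : Set S) → (x : Y) ∈ X.T := fun x hx =>
    H.mem_T hM c hk fun t ht => (hx _ ⟨t, ⟨1, one_mem _, rp_of_mem ht⟩, rfl⟩).symm
  have h3 : ∀ x : c.H0, c.π x ∈ centralizer (Q.map c.π : Set S) → ∀ a, X.χ a x ^ 3 = 1 := fun x hx a => by
    obtain ⟨e, he⟩ := (X.mem_T _).1 (h2 x hx)
    have h4 := (fix_iff hM (h2 x hx)).1 (c.le x.2).2
    rw [← he, ← map_pow, ← map_one X.τ] at h4
    rw [← he, X.χ_τ, ← Units.val_pow_eq_pow_val, ← map_pow, X.τ_inj h4, map_one, Units.val_one]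
  have h4 : ∀ x : c.H0, c.π x ∈ centralizer (Q.map c.π : Set S) → X.χ a₀ x = 1 → c.π x = 1 := fun x hx h0 => by
    have h5 : ∀ a, (3 : ℤ) • a ∈ X.Lam {x.1} := fun a _ e => by rw [e, X.χ_zsmul, zpow_ofNat]; exact h3 x hx a
    have h6 : ∀ i, α i ∈ X.Lam {x.1} ∧ β i ∈ X.Lam {x.1} := fun i => by
      obtain ⟨n, n1, n2, n3⟩ := exists_inv hM (H.ra i)
      obtain ⟨m, m1, m2, m3⟩ := exists_inv hM (H.rb i)
      have h7 := fun a ha => chi_act (a := a) c hk (x := ⟨n, c.uni n n1 ⟨1, n3⟩⟩ * ⟨m, c.uni m m1 ⟨1, m3⟩⟩)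
        (hx _ ⟨_, ⟨_, subset_closure ⟨i, rfl⟩, n2.mul m2⟩, rfl⟩) (n2.mul m2) (h2 x hx) ha
      have h8 := h7 _ H.r0
      have h9 := h7 _ (H.ra i)
      rw [act_mul', X.act_rf (H.rb i), (H.c0 i).1, zero_smul, sub_zero, X.act_rf (H.ra i), sub_sub_cancel_left] at h8
      rw [act_mul', X.act_rf (H.rb i), H.ab, X.act_rf (H.ra i), neg_one_smul, sub_neg_eq_add, cpr_add _ _ _ _ (H.ra i),
        cpr_self _ _ (H.ra i), H.ba] at h9
      obtain ⟨r, hr⟩ : ∃ r, cpr X.cs X.h a₀ (α i) * cpr X.cs X.h a₀ (α i) = 1 + 3 * r := by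
        have := (H.c0 i).2
        generalize cpr X.cs X.h a₀ (α i) = e at *
        obtain ⟨r, rfl | rfl⟩ : ∃ r, e = 3 * r + 1 ∨ e = 3 * r + 2 := ⟨e / 3, by omega⟩
        exacts [⟨3 * r ^ 2 + 2 * r, by ring⟩, ⟨3 * r ^ 2 + 4 * r + 1, by ring⟩]
      have h10 := sub_mem (AddSubgroup.zsmul_mem _ (neg_mem_iff.1 h8) (cpr X.cs X.h a₀ (α i))) (h5 (r • α i))
      rw [smul_smul, hr, smul_smul, add_smul, one_smul, add_sub_cancel_right] at h10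
      refine ⟨h10, ?_⟩
      convert add_mem h9 h10 using 1
      module
    have h7 : ∀ a, a ∈ X.Lam {x.1} := fun a => by
      rw [X.eq_sum_sr a]
      refine sum_mem fun j _ => AddSubgroup.zsmul_mem _ ?_ _
      obtain e | ⟨i, e | e⟩ := H.gen j <;> rw [e]
      exacts [fun _ e => e ▸ h0, (h6 i).1, (h6 i).2]
    have h8 : G ≤ X.cen {x.1} := X.G_eq.ge.trans (sup_le_sup_left (RGD.Sup_mono (S' := X.Sz {x.1}) fun a ha => ⟨ha, h7 a⟩) _)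
    exact (hk x).2 fun y hy => (X.cen_le_centralizer (Set.singleton_subset_iff.2 (h2 x hx)) (h8 hy) _ rfl).symm
  obtain ⟨ω, hω⟩ := exists_prim 2 k (n := 3) (by norm_num)
  have h5 : IsPrimitiveRoot (ω : k) 3 := IsPrimitiveRoot.coe_units_iff.2 (hω ▸ IsPrimitiveRoot.orderOf ω)
  choose f hf using c.surj
  choose i i3 hi using fun x : centralizer (Q.map c.π : Set S) =>
    h5.eq_pow_of_pow_eq_one (h3 (f x) ((hf x.1).symm ▸ x.2) a₀)
  refine (Nat.card_le_card_of_injective (fun x => (⟨i x, i3 x⟩ : Fin 3)) fun x y e => Subtype.ext ?_).trans_eq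
    (Nat.card_fin 3)
  have h6 : ∀ x : centralizer (Q.map c.π : Set S), (f x : Y) ∈ X.T := fun x => h2 (f x) ((hf x.1).symm ▸ x.2)
  have h7 := h4 (f x * (f y)⁻¹) (by rw [map_mul, map_inv, hf, hf]; exact mul_mem x.2 (inv_mem y.2)) (by
    rw [coe_mul, coe_inv, X.χ_mul _ (h6 x) (inv_mem (h6 y)), X.χ_inv _ (h6 y), ← hi, ← hi, Fin.mk.inj e,
      mul_inv_cancel₀ (pow_ne_zero _ ω.ne_zero)])
  rwa [map_mul, map_inv, hf, hf, mul_inv_eq_one] at h7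

omit hM in
/-- **the centre of a Sylow subgroup** -/
theorem zs_of [Fact (Nat.Prime 3)] (H : RT X α β a₀) (hM : ∃ w, X.Wm w * X.Mx = (-2 : ℤ) • 1) : Zs 3 S := fun D hD hm h => by
  have := c.fin X
  have : Finite S := Finite.of_surjective _ c.surj
  obtain ⟨w, hw⟩ := hM
  obtain ⟨y, hy, h1⟩ := X.exists_type w
  obtain ⟨Q, h2, h3⟩ := RT.exists_Q (X := X.conj hy ⟨w, h1⟩) (by rw [X.conj_Mx, h1.pr_eq, hw]) c hk
    ⟨H.inj, H.ra, H.rb, H.r0, H.ab, H.ba, H.or, H.c0, H.gen⟩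
  obtain ⟨P, hP⟩ := hD.exists_le_sylow
  obtain ⟨P', hP'⟩ := h2.exists_le_sylow
  obtain ⟨g, rfl⟩ := MulAction.exists_smul_eq S P P'
  have h4 : (zc D).map (MulAut.conj g).toMonoidHom ≤ centralizer (Q : Set S) := by
    rintro _ ⟨z, hz, rfl⟩ q hq
    obtain ⟨d, hd, rfl⟩ := hP' hq
    exact (Commute.map (hz.2 d (hm P P.2 hP hd)) (MulAut.conj g) :)
  have h5 := (card_le_of_le h4).trans h3
  rw [card_map_of_injective (MulAut.conj g).injective] at h5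
  exact absurd ((Nat.le_of_dvd Nat.card_pos h).trans h5) (by norm_num)

end Cfsg.Agent.RC.X
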