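import Cfsg.Agent.RC.X.Zs
import Cfsg.Agent.KM.Xc.U62
import Cfsg.Agent.KM.Nt
import Cfsg.Agent.KZ.DatX.Weyl

/-!
# RC (S4576), exceptional covers: the centres of the Sylow `3`-subgroups of `F₄(2)`, `²E₆(2)`, `U₆(2)` (helper12)
-/

set_option autoImplicit false
set_option linter.unusedSectionVars false

namespace Cfsg.Agent.RC.X

open Cfsg Cfsg.Lie Cfsg.Agent.DL Cfsg.Agent.KM Cfsg.Agent.KM.Xc Cfsg.Agent.KM.Tor Matrix Cfsg.Agent.KZ.DatX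
  Cfsg.Agent.Nodes.Coroot Cfsg.Agent.Tits.Roots Cfsg.Agent.Nodes.RGDChev Cfsg.Agent.ChevalleyStructure.NPerm
  Cfsg.Agent.ChevalleyStructure.CoxeterGeom Cfsg.Agent.ChevalleyStructure.CoxeterGeomTypes
open Cfsg.Agent.H92.NE (bl bl_comm bl_sr bl_sr_sr FormOK bl_rep)

section Fr

variable {C : ChevalleyDatum} {n : ℕ} {M : CoxeterMatrix (Fin n)} {hp : IsType C n M} {k : Type} [Fact (Nat.Prime 2)]
  [Field k] [CharP k 2] [IsAlgClosed k] {Mx : Matrix (Fin n) (Fin n) ℤ} (Bm : Fin n → Fin n → ℤ)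

/-- the Cartan integer -/
def cp (a b : Fin n → ℤ) : ℤ := 2 * bl Bm b a / bl Bm b b

variable (C) in
/-- the check for `RT` -/
def RTC {m : ℕ} (α β : Fin m → Fin n → ℤ) (a₀ : Fin n → ℤ) : Prop :=
  FormOK C n Bm ∧ (∀ j, Bm j j ≠ 0) ∧ (∀ s t : Fin C.nroots, (∀ j, 3 ∣ pairing (cartanOf C n) j (vec C n s) -
    pairing (cartanOf C n) j (vec C n t)) → s = t) ∧ (∃ s : Fin C.nroots, a₀ = vec C n s) ∧
  (∀ i, (∃ s : Fin C.nroots, α i = vec C n s) ∧ (∃ s : Fin C.nroots, β i = vec C n s) ∧ cp Bm (α i) (β i) = -1 ∧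
    cp Bm (β i) (α i) = -1 ∧ cp Bm a₀ (β i) = 0 ∧ ¬ 3 ∣ cp Bm a₀ (α i)) ∧
  (∀ i j, i ≠ j → cp Bm (α i) (α j) = 0 ∧ cp Bm (α i) (β j) = 0 ∧ cp Bm (β i) (α j) = 0 ∧ cp Bm (β i) (β j) = 0) ∧
  ∀ j, sr j = a₀ ∨ ∃ i, sr j = α i ∨ sr j = β i

variable {Bm}

theorem cpr_cp (X : XF hp 2 k Mx) (hF : FormOK C n Bm) (h0 : ∀ j, Bm j j ≠ 0) (a : Fin n → ℤ) {b : Fin n → ℤ}
    (hb : X.D.Rt b) : cpr X.D.cs X.D.h a b = cp Bm a b := by
  obtain ⟨u : M.Group, j : Fin n, rfl⟩ := hb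
  have key : ∀ z : Fin n → ℤ, 2 * bl Bm z (sr j) = Bm j j * pairing (cartanOf C n) j z := fun z => by
    rw [bl_sr, pairing, Finset.mul_sum, Finset.mul_sum]
    exact Finset.sum_congr rfl fun j' _ => by rw [← mul_assoc, hF.2 j j', mul_assoc]
  have h1 := bl_rep hp hF u (rep M.toCoxeterSystem hp.isCartan u⁻¹ a) (sr j)
  rw [show rep M.toCoxeterSystem hp.isCartan u (rep M.toCoxeterSystem hp.isCartan u⁻¹ a) = a from rep_apply_inv .., bl_comm hF.1 _ (sr j)] at h1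
  have h2 := key (rep M.toCoxeterSystem hp.isCartan u⁻¹ a)
  rw [← h1] at h2
  have h3 := (bl_rep hp hF u (sr j) (sr j)).trans (bl_sr_sr j j)
  exact (cpr_rep_sr X.D.cs X.D.h a u j).trans (Int.eq_ediv_of_mul_eq_right (h3.trans_ne (h0 j))
    ((congrArg (· * _) h3).trans h2.symm))

theorem RTC.rt (X : XF hp 2 k Mx) {m : ℕ} {α β : Fin m → Fin n → ℤ} {a₀ : Fin n → ℤ} (h : RTC C Bm α β a₀) :
    RT X.D α β a₀ := by
  obtain ⟨h1, h2, h3, h4, h5, h6, h7⟩ := h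
  have r : ∀ {a : Fin n → ℤ}, (∃ s : Fin C.nroots, a = vec C n s) → X.D.Rt a := fun ⟨s, e⟩ => e ▸ rt_vec X s
  have ra := fun (a : Fin n → ℤ) i => cpr_cp X h1 h2 a (r (h5 i).1)
  have rb := fun (a : Fin n → ℤ) i => cpr_cp X h1 h2 a (r (h5 i).2.1)
  refine ⟨fun a b ha hb h => ?_, fun i => r (h5 i).1, fun i => r (h5 i).2.1, r h4, fun i => (rb _ i).trans (h5 i).2.2.1,
    fun i => (ra _ i).trans (h5 i).2.2.2.1, fun i j e => ?_,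
    fun i => ⟨(rb _ i).trans (h5 i).2.2.2.2.1, (ra _ i).symm ▸ (h5 i).2.2.2.2.2⟩, h7⟩
  · obtain ⟨s, hs, rfl⟩ := (X.rt_iff a).1 ha
    obtain ⟨t, ht, rfl⟩ := (X.rt_iff b).1 hb
    rw [Fin.mk.inj (h3 ⟨s, hs⟩ ⟨t, ht⟩ fun j => by
      exact (h _ (isRoot_sr X.D.cs X.D.h j)).trans
        (congrArg₂ (· - ·) (cpr_sr X.D.cs X.D.h _ j) (cpr_sr X.D.cs X.D.h _ j)).dvd)]
  · obtain ⟨e1, e2, e3, e4⟩ := h6 i j e
    exact ⟨(ra _ j).trans e1, (rb _ j).trans e2, (ra _ j).trans e3, (rb _ j).trans e4⟩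

theorem rtc_F4 : RTC chevF4 ![![2, -1, 0, 0], ![-1, 2, -2, 0], ![0, -2, 4, -2], ![0, 0, -2, 4]]
    ![![0, 1, 0, 0], ![0, 0, 0, 1]] ![![1, 0, 0, 0], ![-2, -4, -3, -2]] ![0, 0, 1, 0] := by
  unfold RTC; decide +kernel

theorem rtc_E6 : RTC chevE6 (cartanOf chevE6 6) ![![0, 0, 1, 0, 0, 0], ![0, 0, 0, 0, 1, 0], ![0, 1, 0, 0, 0, 0]]
    ![![1, 0, 0, 0, 0, 0], ![0, 0, 0, 0, 0, 1], ![-1, -2, -2, -3, -2, -1]] ![0, 0, 0, 1, 0, 0] := by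
  unfold RTC; decide +kernel

end Fr

variable [Fact (Nat.Prime 3)]

theorem zs_f42 (F : Type) [Field F] [Fintype F] (hF : Fintype.card F = 2) : Zs 3 ↥(chevF4.group F) := by
  have : Fact (Nat.Prime 2) := ⟨Nat.prime_two⟩
  have : CharP F 2 := charP_of_card_eq_prime hF
  obtain ⟨k, _, _, _, X, -, ⟨s⟩⟩ := Nt.has_F4 (r := 2) (e := 1) (F := F) hF
  obtain ⟨w, hw⟩ := X.exists_neg_F4
  exact zs_of (Cv.ofSit X.D s.sit) s.sit.ker (rtc_F4.rt X) ⟨w, (congrArg₂ (· * ·) hw X.D_Mx).trans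
    (show -(1 : Matrix (Fin 4) (Fin 4) ℤ) * ((2 : ℤ) • 1) = (-2 : ℤ) • 1 by decide)⟩

theorem zs_2e62 (K : Type) [Field K] [Fintype K] (h : Fintype.card K = 2 ^ 2) : Zs 3 ↥(twistedE6 K 2) := by
  have : Fact (Nat.Prime 2) := ⟨Nat.prime_two⟩
  have : CharP K 2 := charP_of_card_eq_prime_pow h
  obtain ⟨k, _, _, _, X, -, ⟨s⟩⟩ := Nt.has_2E6 (r := 2) (e := 1) (F := K) h
  obtain ⟨w, hw⟩ := X.exists_neg_E6
  refine zs_of (Cv.ofSit X.D s.sit) s.sit.ker (rtc_E6.rt X) ⟨w, (congrArg₂ (· * ·) hw X.D_Mx).trans ?_⟩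
  change -P6 * ((2 : ℤ) • P6) = (-2 : ℤ) • 1
  rw [mul_smul_comm, neg_mul, ← sq, Nt.P6_sq, smul_neg, neg_smul]

open Cfsg.Agent.KZ.Dat Cfsg.Agent.Nodes.RootsA

/-- the Cartan integers of `A₅` -/
def c5 (a b i j : Fin 6) : ℤ :=
  ∑ m : Fin 6, (Pi.single a 1 - Pi.single b 1 : Fin 6 → ℤ) m * (Pi.single i 1 - Pi.single j 1 : Fin 6 → ℤ) m

theorem c5_inj : ∀ i j i' j' : Fin 6, i ≠ j → i' ≠ j' →
    (∀ m : Fin 5, 3 ∣ c5 i j m.castSucc m.succ - c5 i' j' m.castSucc m.succ) → i = i' ∧ j = j' := by decide +kernel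

theorem gen5 : ∀ j : Fin 5, sr j = rtA (2 : Fin 6) 3 ∨ ∃ i : Fin 2, sr j = rtA (![1, 3] i : Fin 6) (![2, 4] i) ∨
    sr j = rtA (![0, 4] i : Fin 6) (![1, 5] i) := by decide

theorem zs_u62 (F : Type) [Field F] [Fintype F] (h : Fintype.card F = 4) : Zs 3 (PSU 6 F 2) := by
  obtain ⟨p, hp, e, k, _, _, _, f, hk, -, h1⟩ := hasU F (q := 2) h
  obtain ⟨rfl, rfl⟩ := (Nat.prime_two.pow_eq_iff).1 h1.symm
  have r : ∀ {i j : Fin 6}, i ≠ j → (datU 5 hk one_pos).Rt (rtA i j) := fun e => (datA_rt hk one_pos syG _).2 ⟨_, _, e, rfl⟩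
  have c : ∀ (a b : Fin 6) {i j : Fin 6}, i ≠ j → cpr (datU 5 hk one_pos).cs (datU 5 hk one_pos).h (rtA a b) (rtA i j) =
      c5 a b i j := fun a b i j e => ((datU 5 hk one_pos).pair_cor (r e) _).symm.trans (congrArg₂ dotProduct
        (datA_wt hk one_pos syG a b) ((datA_cor hk one_pos syG (r e)).trans (datA_wt hk one_pos syG i j)))
  have na : ∀ i : Fin 2, (![1, 3] i : Fin 6) ≠ ![2, 4] i := by decide
  have nb : ∀ i : Fin 2, (![0, 4] i : Fin 6) ≠ ![1, 5] i := by decide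
  refine zs_of (X := datU 5 hk one_pos) (α := fun i : Fin 2 => rtA (![1, 3] i) (![2, 4] i))
    (β := fun i => rtA (![0, 4] i) (![1, 5] i)) (a₀ := rtA (2 : Fin 6) 3) (cvU hk f h)
    (covU f hk one_pos h (by norm_num) (by norm_num)).sit.ker
    ⟨fun a b ha hb e => ?_, fun i => r (na i), fun i => r (nb i), r (by decide),
      fun i => (c _ _ (nb i)).trans (by revert i; decide), fun i => (c _ _ (na i)).trans (by revert i; decide),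
      fun i j e => ?_, fun i => ?_, gen5⟩ ⟨(pwA 5).symm Fin.revPerm, ?_⟩
  · obtain ⟨i, j, h2, rfl⟩ := (datA_rt hk one_pos syG a).1 ha
    obtain ⟨i', j', h3, rfl⟩ := (datA_rt hk one_pos syG b).1 hb
    obtain ⟨rfl, rfl⟩ := c5_inj i j i' j' h2 h3 fun m => (e _ (r Fin.castSucc_lt_succ.ne)).trans
      (congrArg₂ (· - ·) (c _ _ Fin.castSucc_lt_succ.ne) (c _ _ Fin.castSucc_lt_succ.ne)).dvd
    rfl
  · rw [c _ _ (na j), c _ _ (nb j), c _ _ (na j), c _ _ (nb j)]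
    revert i j
    decide
  · rw [c _ _ (na i), c _ _ (nb i)]
    revert i
    decide
  · refine (congrArg₂ (· * ·) (datA_Wm hk one_pos syG _) (datU_Mx 5 hk one_pos)).trans ((spm_BA _).trans ?_)
    rw [MulEquiv.apply_symm_apply, show (Fin.revPerm * Fin.revPerm : Equiv.Perm (Fin 6)) = 1 by decide, spm_one]
    rfl

end Cfsg.Agent.RC.X
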